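import Mathlib
import Cfsg.Agent.TECH.MiscSyl
import Cfsg.Agent.SOLV.CoprimeSylow
import Cfsg.Agent.SOLV.Frattini
import Cfsg.Agent.SOLV.Fitting
import Cfsg.Agent.SOLV.MinNormal

/-!
# Nilpotent groups of operators without fixed points are covering subgroups
-/

set_option autoImplicit false

open Subgroup
open scoped Pointwise

namespace CL.FroA

open CL.Misc

universe u

section defs
variable {X : Type*} [Group X]

/-- `H` supplements `G` in `G F`. -/
def Sup (G F H : Subgroup X) : Prop := ∀ a ∈ F, ∃ k ∈ G, k * a ∈ H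

/-- Every supplement contains a conjugate of `F`. -/
def Cov (G F : Subgroup X) : Prop := ∀ H, Sup G F H → ∃ k ∈ G, ∀ a ∈ F, k * a * k⁻¹ ∈ H

/-- `F` is nilpotent, normalises `G` and has no fixed point in it. -/
structure Hy (G F : Subgroup X) : Prop where
  nm : F ≤ normalizer (G : Set X)
  nil : Group.IsNilpotent F
  fpf : ∀ g ∈ G, (∀ a ∈ F, a * g = g * a) → g = 1

/-- The subgroup of the `x` with `g x g⁻¹ ∈ H`. -/
def cj (g : X) (H : Subgroup X) : Subgroup X := H.comap (MulAut.conj g).toMonoidHom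

theorem mem_cj {g x : X} {H : Subgroup X} : x ∈ cj g H ↔ g * x * g⁻¹ ∈ H := Iff.rfl

theorem conj_mem {H : Subgroup X} {g x : X} (hg : g ∈ normalizer (H : Set X)) (hx : x ∈ H) :
    g * x * g⁻¹ ∈ H := (mem_normalizer_iff.1 hg x).1 hx

theorem nm_inf {A H K : Subgroup X} (h1 : A ≤ normalizer (H : Set X))
    (h2 : A ≤ normalizer (K : Set X)) : A ≤ normalizer ((H ⊓ K : Subgroup X) : Set X) :=
  (le_inf h1 h2).trans inf_normalizer_le_normalizer_inf

theorem nm_of_conj {A H : Subgroup X} (h : ∀ a ∈ A, ∀ x ∈ H, a * x * a⁻¹ ∈ H) :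
    A ≤ normalizer (H : Set X) := fun a ha => mem_normalizer_iff.2 fun x =>
  ⟨h a ha x, fun hx => by simpa [mul_assoc] using h a⁻¹ (inv_mem ha) _ hx⟩

theorem nm_cen {A H : Subgroup X} (h : A ≤ normalizer (H : Set X)) :
    A ≤ normalizer ((centralizer (H : Set X) : Subgroup X) : Set X) := nm_of_conj fun a ha x hx y hy => by
  have := hx _ (conj_mem (inv_mem (h ha)) hy)
  calc y * (a * x * a⁻¹) = a * (a⁻¹ * y * a⁻¹⁻¹ * x) * a⁻¹ := by group
    _ = _ := by rw [this]; group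

theorem nm_nm {A H : Subgroup X} (h : A ≤ normalizer (H : Set X)) :
    A ≤ normalizer ((normalizer (H : Set X) : Subgroup X) : Set X) := h.trans le_normalizer

theorem mem_nm_cj {g x : X} {H : Subgroup X} :
    x ∈ normalizer ((cj g H : Subgroup X) : Set X) ↔ g * x * g⁻¹ ∈ normalizer (H : Set X) := by
  rw [mem_normalizer_iff, mem_normalizer_iff]
  constructor
  · intro h y
    have := h (g⁻¹ * y * g)
    rw [mem_cj, mem_cj] at this
    convert this using 2 <;> group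
  · intro h y
    rw [mem_cj, mem_cj, h]
    apply iff_of_eq
    congr 1
    group

theorem card_cj (g : X) (H : Subgroup X) : Nat.card (cj g H) = Nat.card H := by
  rw [cj, comap_equiv_eq_map_symm']
  exact card_map_of_injective (MulAut.conj g).symm.injective

theorem pg_cj {p : ℕ} (g : X) {H : Subgroup X} (h : IsPGroup p H) : IsPGroup p (cj g H) :=
  h.comap_of_injective _ (MulAut.conj g).injective

theorem Hy.mono {G G' F : Subgroup X} (h : Hy G F) (hle : G' ≤ G)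
    (hn : F ≤ normalizer (G' : Set X)) : Hy G' F :=
  ⟨hn, h.nil, fun g hg => h.fpf g (hle hg)⟩

theorem Hy.inf_eq [Finite X] {G F : Subgroup X} (h : Hy G F) : G ⊓ F = ⊥ := by
  by_contra hne
  refine inf_centralizer_ne_bot_of_isNilpotent h.nil inf_le_right (nm_inf h.nm le_normalizer) hne
    ((eq_bot_iff_forall _).2 fun x hx => h.fpf x hx.1.1 hx.2)

theorem Hy.eq_one [Finite X] {G F : Subgroup X} (h : Hy G F) {c : X} (hc : c ∈ G)
    (hn : ∀ a ∈ F, c * a * c⁻¹ ∈ F) : c = 1 := h.fpf c hc fun a ha => by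
  have h1 : c * a * c⁻¹ * a⁻¹ ∈ G ⊓ F := mem_inf.2 ⟨by
    rw [show c * a * c⁻¹ * a⁻¹ = c * (a * c⁻¹ * a⁻¹) by group]
    exact mul_mem hc (conj_mem (h.nm ha) (inv_mem hc)), mul_mem (hn a ha) (inv_mem ha)⟩
  rw [h.inf_eq, mem_bot, mul_inv_eq_one, mul_inv_eq_iff_eq_mul] at h1
  exact h1.symm

theorem Sup.cj {G F H : Subgroup X} (h : Sup G F H) (hn : F ≤ normalizer (G : Set X)) {g : X}
    (hg : g ∈ G) : Sup G F (cj g H) := fun a ha => by
  obtain ⟨k, hk, e⟩ := h a ha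
  refine ⟨g⁻¹ * k * (a * g * a⁻¹), mul_mem (mul_mem (inv_mem hg) hk) (conj_mem (hn ha) hg), ?_⟩
  rw [mem_cj]
  convert e using 1
  group

theorem Cov.fix [Finite X] {G N F : Subgroup X} (h : Hy G F) (hN : Cov N F) (hle : N ≤ G) {g : X}
    (hg : g ∈ G) (hc : ∀ a ∈ F, g * a * g⁻¹ * a⁻¹ ∈ N) : g ∈ N := by
  obtain ⟨k, hk, e⟩ := hN (cj g⁻¹ F) fun a ha => ⟨_, hc a ha, by
    rw [mem_cj]; convert ha using 1; group⟩
  have := h.eq_one (mul_mem (inv_mem hg) (hle hk)) fun a ha => by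
    have := e a ha
    rw [mem_cj] at this
    convert this using 1
    group
  rwa [inv_mul_eq_one.1 this]

theorem Cov.syl [Finite X] {G F P : Subgroup X} (h : Cov G F) (hn : F ≤ normalizer (G : Set X))
    {p : ℕ} [Fact p.Prime] (hP : SylIn p P G) :
    ∃ Q, SylIn p Q G ∧ F ≤ normalizer (Q : Set X) := by
  obtain ⟨k, hk, e⟩ := h (normalizer (P : Set X)) fun a ha => hP.frattini (hn ha)
  refine ⟨cj k P, hP.of_card_le (pg_cj k hP.isPGroup) (fun x hx => ?_) (card_cj k P).ge,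
    fun a ha => mem_nm_cj.2 (e a ha)⟩
  have := conj_mem (le_normalizer (inv_mem hk)) (hP.le (mem_cj.1 hx))
  convert this using 1
  group

end defs

section nil
variable {X : Type*} [Group X] [Finite X]

theorem exists_pfix {p : ℕ} [Fact p.Prime] {P K : Subgroup X} (hP : IsPGroup p P)
    (hn : P ≤ normalizer (K : Set X)) (hd : p ∣ Nat.card K) :
    p ∣ Nat.card (K ⊓ centralizer (P : Set X) : Subgroup X) := by
  obtain ⟨S, hS, hPS⟩ := exists_sylIn_ge hP (le_sup_left : P ≤ P ⊔ K)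
  have h1 := hS.inf_normal le_sup_right (sup_le hn le_normalizer)
  have h2 := inf_centralizer_ne_bot_of_isPGroup h1.isPGroup hP
    (nm_inf (hPS.trans le_normalizer) hn) (h1.ne_bot hd)
  have h3 : IsPGroup p (S ⊓ K ⊓ centralizer (P : Set X) : Subgroup X) := h1.isPGroup.to_inf_left
  obtain ⟨n, hn0, hn⟩ := h3.nontrivial_iff_card.1 ((nontrivial_iff_ne_bot _).2 h2)
  exact (hn ▸ dvd_pow_self p hn0.ne').trans (card_dvd_of_le (inf_le_inf_right _ inf_le_right))

/-- The Sylow `p`-subgroup of a nilpotent subgroup. -/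
abbrev pt (p : ℕ) (F : Subgroup X) : Subgroup X := (Cfsg.pCore p F).map F.subtype

/-- The Hall `p'`-subgroup of a nilpotent subgroup. -/
abbrev qt (p : ℕ) (F : Subgroup X) : Subgroup X := (Cfsg.pPrimeCore p F).map F.subtype

theorem pt_pg (p : ℕ) (F : Subgroup X) : IsPGroup p (pt p F) := (isPGroup_pCore p F).map _

theorem qt_cop (p : ℕ) (F : Subgroup X) : (Nat.card (qt p F)).Coprime p :=
  coprime_card_map_pPrimeCore _

theorem pt_sup_qt (p : ℕ) [Fact p.Prime] {F : Subgroup X} (h : Group.IsNilpotent F) :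
    pt p F ⊔ qt p F = F := by
  rw [← Subgroup.map_sup, pCore_sup_pPrimeCore_of_isNilpotent, ← MonoidHom.range_eq_map,
    range_subtype]

omit [Finite X] in
theorem nm_pt (p : ℕ) (F : Subgroup X) : F ≤ normalizer ((pt p F : Subgroup X) : Set X) :=
  le_normalizer.trans (normalizer_le_normalizer_map_pCore F)

omit [Finite X] in
theorem nm_qt (p : ℕ) (F : Subgroup X) : F ≤ normalizer ((qt p F : Subgroup X) : Set X) :=
  le_normalizer.trans (normalizer_le_normalizer_map_pPrimeCore F)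

theorem exists_inv_pgroup {H : Subgroup X} (hH : Group.IsNilpotent H) (n : ℕ) :
    ∀ Y : Subgroup X, Nat.card Y = n → H ≤ normalizer (Y : Set X) →
      ¬ (Nat.card Y).Coprime (Nat.card H) → ∃ p : ℕ, p.Prime ∧ p ∣ Nat.card H ∧
        ∃ D : Subgroup X, D ≠ ⊥ ∧ IsPGroup p D ∧ D ≤ Y ∧ H ≤ normalizer (D : Set X) := by
  induction n using Nat.strong_induction_on with
  | _ n ih =>
  intro Y hn hHY hc
  by_cases h1 : ∃ p : ℕ, p.Prime ∧ p ∣ Nat.card Y ∧ p ∣ Nat.card H ∧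
      ¬ Y ≤ centralizer ((pt p H : Subgroup X) : Set X)
  · obtain ⟨p, hp, hY, hd, hne⟩ := h1
    have := Fact.mk hp
    have hlt : Y ⊓ centralizer ((pt p H : Subgroup X) : Set X) < Y := inf_lt_left.2 hne
    obtain ⟨q, hq, h2, D, h3, h4, h5, h6⟩ := ih _ (hn ▸ card_lt_of_lt hlt) _ rfl
      (nm_inf hHY (nm_cen (nm_pt p H))) fun e => hp.one_lt.ne' (Nat.eq_one_of_dvd_coprimes e
        (exists_pfix (pt_pg p H) ((map_subtype_le _).trans hHY) hY) hd)
    exact ⟨q, hq, h2, D, h3, h4, h5.trans inf_le_left, h6⟩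
  push Not at h1
  obtain ⟨p, hp, hY, hd⟩ := Nat.Prime.not_coprime_iff_dvd.1 hc
  have := Fact.mk hp
  let π : Set ℕ := {q | ¬ q ∣ Nat.card Y}
  let L := (Cfsg.piCore π H).map H.subtype
  have hL : L ≤ H := map_subtype_le _
  have hLc : (Nat.card L).Coprime (Nat.card Y) := by
    rw [card_map_of_injective H.subtype_injective]
    refine Nat.coprime_of_dvd fun q hq h2 => ?_
    exact (isPiHall_iff.1 (isPiHall_piCore_of_isNilpotent π H)).1 q hq h2
  have := isNilpotent_of_le hH hL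
  obtain ⟨P, hP⟩ := coprime_exists_invariant_sylow L Y (hL.trans hHY) hLc (Or.inl inferInstance) p
  have h2 := sylIn_map_subtype P
  refine ⟨p, hp, hd, _, h2.ne_bot hY, h2.isPGroup, h2.le,
    le_of_forall_isPGroup_le fun q _ Q => ?_⟩
  rw [sylow_eq_pCore_of_isNilpotent]
  by_cases h3 : q ∣ Nat.card Y
  · by_cases h4 : q ∣ Nat.card H
    · exact (le_centralizer_iff.1 (h2.le.trans (h1 q Fact.out h3 h4))).trans
        (centralizer_le_normalizer _)
    · rw [pCore_eq_bot_of_coprime ((Nat.Prime.coprime_iff_not_dvd Fact.out).2 h4).symm,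
        Subgroup.map_bot]
      exact bot_le
  · exact (map_mono (pCore_le_piCore (π := π) h3)).trans hP

end nil

section main

theorem Cov.of_top {X : Type u} [Group X] [Finite X] {G F : Subgroup X} (h : Hy G F)
    (H0 : ∀ (Y : Type u) [Group Y] [Finite Y] (G' F' : Subgroup Y), G'.Normal → G' ⊔ F' = ⊤ →
      Nat.card G' = Nat.card G → Nat.card F' = Nat.card F → Hy G' F' → Cov G' F') : Cov G F := by
  intro H hH
  have hn : (G.subgroupOf (G ⊔ F)).Normal :=
    (normal_subgroupOf_iff_le_normalizer le_sup_left).2 (sup_le le_normalizer h.nm)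
  obtain ⟨k, hk, e⟩ := H0 ↥(G ⊔ F) (G.subgroupOf _) (F.subgroupOf _) hn
    (by rw [← subgroupOf_sup le_sup_left le_sup_right, subgroupOf_self])
    (Nat.card_congr (subgroupOfEquivOfLe le_sup_left).toEquiv)
    (Nat.card_congr (subgroupOfEquivOfLe le_sup_right).toEquiv)
    ⟨by rw [normalizer_eq_top]; exact le_top, isNilpotent_subgroupOf h.nil _, fun g hg e =>
      Subtype.ext (h.fpf g hg fun a ha => congrArg Subtype.val (e ⟨a, mem_sup_right ha⟩ ha))⟩
    (H.subgroupOf _) fun a ha => by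
      obtain ⟨k, hk, e⟩ := hH a ha
      exact ⟨⟨k, mem_sup_left hk⟩, hk, e⟩
  exact ⟨k, hk, fun a ha => e ⟨a, mem_sup_right ha⟩ ha⟩

variable {X : Type u} [Group X] [Finite X] {G F : Subgroup X}

theorem Hy.quot (h : Hy G F) {N : Subgroup X} [N.Normal] (hle : N ≤ G) (hN : Cov N F) :
    Hy (G.map (QuotientGroup.mk' N)) (F.map (QuotientGroup.mk' N)) := by
  have := h.nil
  refine ⟨nm_of_conj ?_, isNilpotent_map _ _, ?_⟩
  · rintro _ ⟨a, ha, rfl⟩ _ ⟨x, hx, rfl⟩
    exact ⟨_, conj_mem (h.nm ha) hx, by simp⟩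
  · rintro _ ⟨g, hg, rfl⟩ e
    refine (QuotientGroup.eq_one_iff g).2 (hN.fix h hle hg fun a ha => ?_)
    rw [← QuotientGroup.eq_one_iff]
    have := e _ ⟨a, ha, rfl⟩
    simp only [QuotientGroup.mk'_apply] at this
    simp [← this]

omit [Finite X] in
theorem Cov.ext {N : Subgroup X} [hNn : N.Normal] (hle : N ≤ G) (hN : Cov N F)
    (hq : Cov (G.map (QuotientGroup.mk' N)) (F.map (QuotientGroup.mk' N))) : Cov G F := by
  intro H hH
  obtain ⟨_, ⟨k, hk, rfl⟩, e⟩ := hq (H.map (QuotientGroup.mk' N)) (by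
    rintro _ ⟨a, ha, rfl⟩
    obtain ⟨k, hk, e⟩ := hH a ha
    exact ⟨_, ⟨k, hk, rfl⟩, _, e, by simp⟩)
  obtain ⟨m, hm, e'⟩ := hN (cj k H) fun a ha => by
    obtain ⟨y, hy, e1⟩ := e _ ⟨a, ha, rfl⟩
    have h1 : y * (k * a * k⁻¹)⁻¹ ∈ N := by
      rw [← QuotientGroup.eq_one_iff]
      simp only [QuotientGroup.mk'_apply] at e1
      simp [e1]
    refine ⟨k⁻¹ * (y * (k * a * k⁻¹)⁻¹) * k⁻¹⁻¹, hNn.conj_mem _ h1 _, ?_⟩
    rw [mem_cj]
    convert (show y ∈ H from hy) using 1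
    group
  refine ⟨k * m, mul_mem hk (hle hm), fun a ha => ?_⟩
  have := e' a ha
  rw [mem_cj] at this
  convert this using 1
  group

theorem Hy.cov_pgroup (h : Hy G F) {p : ℕ} [Fact p.Prime] (hG : IsPGroup p G) : Cov G F := by
  have hq : qt p F ≤ F := map_subtype_le _
  have hc : (Nat.card (qt p F)).Coprime (Nat.card G) := coprime_card_of_isPGroup hG (qt_cop p F)
  have hs : Group.IsSolvable (qt p F) := by have := isNilpotent_of_le h.nil hq; infer_instance
  have h0 : G ⊓ centralizer ((qt p F : Subgroup X) : Set X) = ⊥ := by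
    by_contra hne
    refine inf_centralizer_ne_bot_of_isPGroup hG.to_inf_left (pt_pg p F)
      ((map_subtype_le _).trans (nm_inf h.nm (nm_cen (nm_qt p F)))) hne
      ((eq_bot_iff_forall _).2 fun x hx => h.fpf x hx.1.1 fun a ha => ?_)
    rw [← pt_sup_qt p h.nil] at ha
    exact ((sup_le (le_centralizer_iff.1 (zpowers_le.2 hx.2)) (le_centralizer_iff.1
      (zpowers_le.2 hx.1.2))) ha x (mem_zpowers x)).symm
  have key : ∀ H, Sup G F H → qt p F ≤ H → F ≤ H := by
    intro H hH hle a ha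
    obtain ⟨k, hk, e⟩ := hH a ha
    obtain ⟨m, hm, e'⟩ := coprime_le_conj (qt p F) (G ⊓ H) (cj (k * a)⁻¹ (qt p F))
      (nm_inf (hq.trans h.nm) (hle.trans le_normalizer))
      (hc.coprime_dvd_right (card_dvd_of_le inf_le_left)) (Or.inl hs) fun b hb => by
        refine ⟨b * (k * a * (a⁻¹ * b * a⁻¹⁻¹) * (k * a)⁻¹)⁻¹, mem_inf.2 ⟨?_, mul_mem (hle hb)
          (inv_mem (mul_mem (mul_mem e (hle (conj_mem (nm_qt p F (inv_mem ha)) hb))) (inv_mem e)))⟩,
          k * a * (a⁻¹ * b * a⁻¹⁻¹) * (k * a)⁻¹, ?_, by group⟩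
        · rw [show b * (k * a * (a⁻¹ * b * a⁻¹⁻¹) * (k * a)⁻¹)⁻¹ = b * k * b⁻¹ * k⁻¹ by group]
          exact mul_mem (conj_mem (h.nm (hq hb)) hk) (inv_mem hk)
        · rw [mem_cj]
          convert conj_mem (nm_qt p F (inv_mem ha)) hb using 1
          group
    have h1 : m * k ∈ G ⊓ centralizer ((qt p F : Subgroup X) : Set X) := by
      refine mem_inf.2 ⟨mul_mem hm.1 hk, fun b hb => ?_⟩
      have h2 := e' hb
      rw [mem_pointwise_smul_iff_inv_smul_mem, ← map_inv, MulAut.smul_def, MulAut.conj_apply,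
        mem_cj] at h2
      have h3 := conj_mem (nm_qt p F ha) h2
      have h4 : b⁻¹ * ((m * k)⁻¹ * b * (m * k)) ∈ G ⊓ F := mem_inf.2 ⟨by
        rw [show b⁻¹ * ((m * k)⁻¹ * b * (m * k)) = b⁻¹ * (m * k)⁻¹ * b⁻¹⁻¹ * (m * k) by group]
        exact mul_mem (conj_mem (h.nm (hq (inv_mem hb))) (inv_mem (mul_mem hm.1 hk)))
          (mul_mem hm.1 hk), mul_mem (inv_mem (hq hb)) (hq (by convert h3 using 1; group))⟩
      rw [h.inf_eq, mem_bot, inv_mul_eq_one] at h4
      calc b * (m * k) = m * k * ((m * k)⁻¹ * b * (m * k)) := by group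
        _ = _ := by rw [← h4]
    rw [h0, mem_bot] at h1
    have := mul_mem hm.2 e
    rwa [← mul_assoc, h1, one_mul] at this
  intro H hH
  obtain ⟨k, hk, e⟩ := coprime_le_conj (qt p F) G H (hq.trans h.nm) hc (Or.inl hs) fun a ha => by
    obtain ⟨k, hk, e⟩ := hH a (hq ha)
    exact ⟨k⁻¹, inv_mem hk, _, e, by group⟩
  refine ⟨k⁻¹, inv_mem hk, fun a ha => key (cj k⁻¹ H) (hH.cj h.nm (inv_mem hk)) (fun b hb => ?_) ha⟩
  have := e hb
  rwa [mem_pointwise_smul_iff_inv_smul_mem, ← map_inv] at this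

theorem exists_min_sup [G.Normal] (hT : G ⊔ F = ⊤) (hF : Group.IsNilpotent F) {H : Subgroup X}
    (hH : Sup G F H) : ∃ K ≤ H, Sup G F K ∧ Group.IsNilpotent K ∧
      ∀ p : ℕ, p.Prime → p ∣ Nat.card K → p ∣ Nat.card F := by
  obtain ⟨K, ⟨h1, h2⟩, hmin⟩ := Set.exists_min_image {K : Subgroup X | K ≤ H ∧ Sup G F K}
    (fun K => Nat.card K) (Set.toFinite _) ⟨H, le_rfl, hH⟩
  have hm : ∀ L ≤ K, (∀ x ∈ K, ∃ k ∈ G, k * x ∈ L) → L = K := fun L hL e =>
    eq_of_le_of_card_ge hL (hmin L ⟨hL.trans h1, fun a ha => by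
      obtain ⟨k, hk, e1⟩ := h2 a ha
      obtain ⟨m, hm, e2⟩ := e _ e1
      exact ⟨m * k, mul_mem hm hk, by rwa [mul_assoc]⟩⟩)
  let π := QuotientGroup.mk' G
  have hFt : F.map π = ⊤ := by
    have := congrArg (Subgroup.map π) hT
    rwa [Subgroup.map_sup, map_top_of_surjective _ (QuotientGroup.mk'_surjective G),
      (Subgroup.map_eq_bot_iff _).2 (QuotientGroup.ker_mk' G).ge, bot_sup_eq] at this
  have hq : Group.IsNilpotent (X ⧸ G) := by
    have h3 := isNilpotent_map F π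
    rw [hFt] at h3
    exact Group.nilpotent_of_mulEquiv topEquiv
  have hfr : (π.comp K.subtype).ker ≤ frattini K := by
    rw [frattini, Order.radical]
    refine le_iInf₂ fun M hM => ?_
    by_contra hne
    have h3 := sup_eq_top_of_isCoatom_of_not_le hM hne
    refine hM.1 (map_injective K.subtype_injective ?_)
    rw [← MonoidHom.range_eq_map, range_subtype]
    refine hm _ (map_subtype_le _) fun x hx => ?_
    obtain ⟨n, hn, y, hy, e⟩ := mem_sup_of_normal_left.1 (h3.ge (mem_top ⟨x, hx⟩))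
    refine ⟨(n : X)⁻¹, inv_mem ((QuotientGroup.eq_one_iff _).1 hn), y, hy, ?_⟩
    rw [show x = n * y from (congrArg Subtype.val e).symm, inv_mul_cancel_left]
    rfl
  have hK : Group.IsNilpotent K := isNilpotent_of_quotient_of_le_frattini _ hfr
    (Group.nilpotent_of_mulEquiv (QuotientGroup.quotientKerEquivRange (π.comp K.subtype)).symm)
  refine ⟨K, h1, h2, hK, fun p hp hd => ?_⟩
  by_contra hnd
  have := Fact.mk hp
  have h3 : pt p K ≤ G := by
    have h4 : Nat.card (X ⧸ G) ∣ Nat.card F := by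
      rw [← card_top, ← hFt]; exact card_map_dvd _ _
    have h5 : IsPGroup p ((pt p K).map π) := (pt_pg p K).map π
    obtain ⟨n, hn⟩ := IsPGroup.iff_card.1 h5
    have h6 : p ^ n ∣ Nat.card F := hn ▸ (card_subgroup_dvd_card _).trans h4
    rcases n with _ | n
    · rw [pow_zero, card_eq_one, Subgroup.map_eq_bot_iff, QuotientGroup.ker_mk'] at hn
      exact hn
    · exact absurd ((dvd_pow_self p n.succ_ne_zero).trans h6) hnd
  have h4 := hm (qt p K) (map_subtype_le _) fun x hx => by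
    have h5 : x ∈ G ⊔ qt p K := (sup_le_sup_right h3 _) ((pt_sup_qt p hK).ge hx)
    obtain ⟨n, hn, y, hy, rfl⟩ := mem_sup_of_normal_left.1 h5
    exact ⟨n⁻¹, inv_mem hn, by rwa [inv_mul_cancel_left]⟩
  have h5 := qt_cop p K
  rw [h4] at h5
  exact hp.one_lt.ne' (Nat.eq_one_of_dvd_coprimes h5 hd dvd_rfl)

theorem cov_down (h : Hy G F) {p : ℕ} [Fact p.Prime]
    (hloc : ∀ D : Subgroup X, D ≠ ⊥ → IsPGroup p D → D ≤ G → F ≤ normalizer (D : Set X) →
      Cov (G ⊓ normalizer (D : Set X)) F) [hGn : G.Normal]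
    {P : Subgroup X} (hP : SylIn p P G) (hFP : F ≤ normalizer (P : Set X)) (D : Subgroup X) :
    D ≠ ⊥ → IsPGroup p D → D ≤ G → ∀ H ≤ normalizer (D : Set X), Sup G F H →
      ∃ k ∈ G, ∀ a ∈ F, k * a * k⁻¹ ∈ H := by
  induction D using WellFoundedGT.induction with
  | ind D ih =>
  intro hD hp hle H hHD hH
  obtain ⟨g, hg, e⟩ : ∃ g ∈ G, ∀ a ∈ F, g * a * g⁻¹ ∈ normalizer (D : Set X) := by
    obtain ⟨Q, hQ, hDQ⟩ := exists_sylIn_ge hp (le_inf hle le_normalizer)
    rcases hDQ.eq_or_lt with rfl | hlt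
    · have h1 := sylIn_of_normalizer hle hQ
      obtain ⟨g, hg, e⟩ := h1.exists_conj_le hP.isPGroup hP.le
      have h2 : P = cj g D := eq_of_le_of_card_ge (fun x hx => e x hx)
        (by rw [card_cj, h1.card_eq_card hP])
      exact ⟨g, hg, fun a ha => mem_nm_cj.1 (h2 ▸ hFP ha)⟩
    · obtain ⟨g, hg, e⟩ := ih Q hlt hlt.ne_bot hQ.isPGroup (hQ.le.trans inf_le_left)
        (normalizer (D : Set X) ⊓ normalizer (Q : Set X)) inf_le_right fun a ha => by
          obtain ⟨k, hk, e⟩ := hH a ha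
          obtain ⟨m, hm, e'⟩ := hQ.frattini (g := k * a) (inf_normalizer_le_normalizer_inf
            ⟨by rw [normalizer_eq_top]; trivial, le_normalizer (hHD e)⟩)
          exact ⟨m * k, mul_mem hm.1 hk, by
            rw [mul_assoc]; exact mem_inf.2 ⟨mul_mem hm.2 (hHD e), e'⟩⟩
      exact ⟨g, hg, fun a ha => (e a ha).1⟩
  have h1 : F ≤ normalizer ((cj g D : Subgroup X) : Set X) := fun a ha => mem_nm_cj.2 (e a ha)
  obtain ⟨k, hk, e'⟩ := hloc (cj g D) (fun e => hD (by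
      rw [← card_eq_one, ← card_cj g D, e, card_bot])) (pg_cj g hp) (fun x hx => by
      have := hGn.conj_mem _ (hle (mem_cj.1 hx)) g⁻¹
      convert this using 1
      group) h1 (cj g H) fun a ha => by
    obtain ⟨k, hk, e1⟩ := hH.cj h.nm hg a ha
    refine ⟨k, mem_inf.2 ⟨hk, ?_⟩, e1⟩
    have := mul_mem (mem_nm_cj.2 (hHD (mem_cj.1 e1))) (inv_mem (h1 ha))
    rwa [mul_inv_cancel_right] at this
  refine ⟨g * k, mul_mem hg hk.1, fun a ha => ?_⟩
  have := mem_cj.1 (e' a ha)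
  convert this using 1
  group

theorem cov_aux (n : ℕ) : ∀ (X : Type u) [Group X] [Finite X] (G F : Subgroup X),
    Nat.card G * Nat.card F = n → Hy G F → Cov G F := by
  induction n using Nat.strong_induction_on with
  | _ n ih =>
  intro X₀ _ _ G₀ F₀ hn₀ h₀
  refine Cov.of_top h₀ fun X _ _ G F hGn hT e1 e2 h => ?_
  have hn : Nat.card G * Nat.card F = n := by rw [e1, e2, hn₀]
  clear e1 e2 hn₀ h₀
  have ih1 : ∀ G' < G, F ≤ normalizer (G' : Set X) → Cov G' F := fun G' hlt hnm =>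
    ih _ (hn ▸ Nat.mul_lt_mul_of_pos_right (card_lt_of_lt hlt) Nat.card_pos) X G' F rfl
      (h.mono hlt.le hnm)
  by_cases h1 : ∃ N : Subgroup X, N.Normal ∧ N ≠ ⊥ ∧ N < G
  · obtain ⟨N, hN, hN1, hlt⟩ := h1
    have h2 := ih1 N hlt (by rw [normalizer_eq_top]; exact le_top)
    refine Cov.ext hlt.le h2 (ih _ ?_ _ _ _ rfl (h.quot hlt.le h2))
    rw [← hn]
    refine Nat.mul_lt_mul_of_lt_of_le ?_ (Nat.le_of_dvd Nat.card_pos (card_map_dvd _ _))
      Nat.card_pos
    rw [← relIndex_ker, QuotientGroup.ker_mk', ← (N.subgroupOf G).index_mul_card]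
    refine lt_mul_of_one_lt_right (Nat.pos_of_ne_zero FiniteIndex.index_ne_zero) ?_
    rw [Nat.card_congr (subgroupOfEquivOfLe hlt.le).toEquiv]
    exact (one_lt_card_iff_ne_bot _).2 hN1
  by_cases h2 : ∃ p : ℕ, p.Prime ∧ IsPGroup p G
  · obtain ⟨p, hp, hG⟩ := h2
    have := Fact.mk hp
    exact h.cov_pgroup hG
  push Not at h1 h2
  have hloc : ∀ p : ℕ, p.Prime → ∀ D : Subgroup X, D ≠ ⊥ → IsPGroup p D → D ≤ G →
      F ≤ normalizer (D : Set X) → Cov (G ⊓ normalizer (D : Set X)) F := by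
    intro p hp D hD hDp hle hF
    refine ih1 _ (inf_lt_left.2 fun hG => ?_) (nm_inf h.nm (nm_nm hF))
    have h3 : D.Normal := normalizer_eq_top_iff.1 (top_le_iff.1 (hT ▸ sup_le hG hF))
    exact h1 D h3 hD (lt_of_le_of_ne hle fun e => h2 p hp (e ▸ hDp))
  intro H₀ hH₀
  obtain ⟨H, hle, hH, hnil, hpr⟩ := exists_min_sup hT h.nil hH₀
  suffices ∃ k ∈ G, ∀ a ∈ F, k * a * k⁻¹ ∈ H from
    this.imp fun k hk => ⟨hk.1, fun a ha => hle (hk.2 a ha)⟩
  have hs : Group.IsSolvable F := by have := h.nil; infer_instance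
  by_cases hc : (Nat.card G).Coprime (Nat.card H)
  · have h3 : Nat.card F ∣ Nat.card H := by
      let π := QuotientGroup.mk' G
      have h4 : Nat.card (F.map π) = Nat.card F := by
        rw [← relIndex_ker, QuotientGroup.ker_mk', ← inf_relIndex_right, h.inf_eq, relIndex_bot_left]
      refine h4 ▸ (card_dvd_of_le ?_).trans (card_map_dvd H π)
      rintro _ ⟨a, ha, rfl⟩
      obtain ⟨k, hk, e⟩ := hH a ha
      exact ⟨_, e, by simp [π, (QuotientGroup.eq_one_iff k).2 hk]⟩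
    obtain ⟨k, hk, e⟩ := coprime_le_conj F G H h.nm (hc.symm.coprime_dvd_left h3) (Or.inl hs)
      fun a ha => by
        obtain ⟨k, hk, e⟩ := hH a ha
        exact ⟨k⁻¹, inv_mem hk, _, e, by group⟩
    refine ⟨k⁻¹, inv_mem hk, fun a ha => ?_⟩
    have := e ha
    rwa [mem_pointwise_smul_iff_inv_smul_mem, ← map_inv] at this
  obtain ⟨p, hp, hd, D, hD, hDp, hDG, hHD⟩ := exists_inv_pgroup hnil _ G rfl
    (by rw [normalizer_eq_top]; exact le_top) hc
  have := Fact.mk hp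
  have hpG : p ∣ Nat.card G := by
    obtain ⟨m, hm0, hm⟩ := hDp.nontrivial_iff_card.1 ((nontrivial_iff_ne_bot _).2 hD)
    exact (hm ▸ dvd_pow_self p hm0.ne').trans (card_dvd_of_le hDG)
  obtain ⟨E, hE, hEp, hEG, hFE⟩ : ∃ E : Subgroup X, E ≠ ⊥ ∧ IsPGroup p E ∧ E ≤ G ∧
      F ≤ normalizer (E : Set X) := by
    have h3 := exists_pfix (pt_pg p F) ((map_subtype_le _).trans h.nm) hpG
    by_cases h4 : G ≤ centralizer ((pt p F : Subgroup X) : Set X)
    · have hq : qt p F ≤ F := map_subtype_le _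
      have h5 : qt p F < F := lt_of_le_of_ne hq fun e => by
        have h6 := qt_cop p F
        rw [e] at h6
        exact hp.one_lt.ne' (Nat.eq_one_of_dvd_coprimes h6 (hpr p hp hd) dvd_rfl)
      obtain ⟨P, hP⟩ := exists_sylIn (p := p) G
      obtain ⟨Q, hQ, h6⟩ := (ih _ (hn ▸ Nat.mul_lt_mul_of_pos_left (card_lt_of_lt h5) Nat.card_pos)
        X G (qt p F) rfl ⟨hq.trans h.nm, isNilpotent_of_le h.nil hq, fun g hg e =>
          h.fpf g hg fun a ha => by
            rw [← pt_sup_qt p h.nil] at ha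
            exact ((sup_le (le_centralizer_iff.1 (zpowers_le.2 (h4 hg))) (le_centralizer_iff.1
              (zpowers_le.2 (show g ∈ centralizer ((qt p F : Subgroup X) : Set X) from e)))) ha g
              (mem_zpowers g)).symm⟩).syl (hq.trans h.nm) hP
      refine ⟨Q, hQ.ne_bot hpG, hQ.isPGroup, hQ.le, ?_⟩
      rw [← pt_sup_qt p h.nil]
      exact sup_le ((le_centralizer_iff.1 (hQ.le.trans h4)).trans (centralizer_le_normalizer _)) h6
    · have h5 := nm_inf h.nm (nm_cen (nm_pt p F))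
      obtain ⟨P, hP⟩ := exists_sylIn (p := p) (G ⊓ centralizer ((pt p F : Subgroup X) : Set X))
      obtain ⟨Q, hQ, h6⟩ := (ih1 _ (inf_lt_left.2 h4) h5).syl h5 hP
      exact ⟨Q, hQ.ne_bot h3, hQ.isPGroup, hQ.le.trans inf_le_left, h6⟩
  obtain ⟨P, ⟨h3, h4, h5, h6⟩, hmax⟩ := Set.exists_max_image {E : Subgroup X | E ≠ ⊥ ∧ IsPGroup p E ∧
    E ≤ G ∧ F ≤ normalizer (E : Set X)} (fun K => Nat.card K) (Set.toFinite _) ⟨E, hE, hEp, hEG, hFE⟩
  obtain ⟨Q₀, hQ₀⟩ := exists_sylIn (p := p) (G ⊓ normalizer (P : Set X))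
  obtain ⟨Q, hQ, h7⟩ := (hloc p hp P h3 h4 h5 h6).syl (nm_inf h.nm (nm_nm h6)) hQ₀
  have h8 : P ≤ Q := hQ.le_of_normalizes h4 (le_inf h5 le_normalizer) (hQ.le.trans inf_le_right)
  have h9 : P = Q := eq_of_le_of_card_ge h8 (hmax Q ⟨fun e => h3 (le_bot_iff.1 (e ▸ h8)),
    hQ.isPGroup, hQ.le.trans inf_le_left, h7⟩)
  subst h9
  exact cov_down h (hloc p hp) (sylIn_of_normalizer h5 hQ) h6 D hD hDp hDG H hHD hH

/-- A nilpotent group of operators without fixed points lies, up to conjugacy, in every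
supplement. -/
theorem Hy.cov (h : Hy G F) : Cov G F := cov_aux _ X G F rfl h

end main

end CL.FroA
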