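import Mathlib
import Cfsg.Agent.SOLV.FH.Cov
import Cfsg.Agent.FGS.FreeMod
import Cfsg.Agent.ODD.AbelemRep
import Cfsg.Agent.PLOC.ElemAb
import Cfsg.Agent.SOLV.CoprimeGen
import Cfsg.Agent.SOLV.Hol
import Cfsg.Agent.SOLV.FrobeniusNil

/-!
# Frobenius groups of operators whose kernel has no fixed points
-/

set_option autoImplicit false

open Subgroup
open scoped Pointwise

namespace CL.FroA

open CL.Misc CL.Abelem

universe u

theorem exists_proj {k V Γ : Type*} [Field k] [AddCommGroup V] [Module k V]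
    [FiniteDimensional k V] [Group Γ] [Fintype Γ] {ρ : Representation k Γ V}
    (h : FreeMod.Free ρ) : ∃ π : V →ₗ[k] V, (∀ v, ∑ g, ρ g⁻¹ (π (ρ g v)) = v) ∧
      ∀ v, π (∑ g, ρ g (π v)) = π v := by
  classical
  obtain ⟨W, hW⟩ := h.isInternal
  have h1 : W.map (ρ 1) = W := by rw [map_one]; exact Submodule.map_id W
  have hc : IsCompl W (⨆ (g : Γ) (_ : g ≠ 1), W.map (ρ g)) := by
    refine ⟨(hW.submodule_iSupIndep 1).mono_left h1.ge, codisjoint_iff.2 (top_le_iff.1 ?_)⟩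
    rw [← hW.submodule_iSup_eq_top]
    refine iSup_le fun g => ?_
    by_cases hg : g = 1
    · rw [hg, h1]; exact le_sup_left
    · exact le_sup_of_le_right (le_iSup₂_of_le g hg le_rfl)
  have key : ∀ w ∈ W, ∀ g, W.projection _ hc (ρ g w) = if g = 1 then w else 0 := fun w hw g => by
    split_ifs with hg
    · rw [hg, map_one]
      exact Submodule.projection_apply_of_mem_left hc hw
    · exact (Submodule.projection_apply_eq_zero_iff hc).2
        (Submodule.mem_iSup_of_mem g (Submodule.mem_iSup_of_mem hg ⟨w, hw, rfl⟩))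
  refine ⟨W.projection _ hc, fun v => ?_, fun v => ?_⟩
  · have hv : v ∈ ⨆ g, W.map (ρ g) := hW.submodule_iSup_eq_top.ge trivial
    induction hv using Submodule.iSup_induction' with
    | mem a x hx =>
      obtain ⟨w, hw, rfl⟩ := hx
      rw [Finset.sum_eq_single a⁻¹]
      · rw [← Module.End.mul_apply (ρ a⁻¹), ← map_mul, key w hw, if_pos (inv_mul_cancel a), inv_inv]
      · intro b _ hb
        rw [← Module.End.mul_apply (ρ b), ← map_mul, key w hw,
          if_neg fun e => hb (eq_inv_of_mul_eq_one_left e), map_zero]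
      · simp
    | zero => simp
    | add x y _ _ hx hy => simp only [map_add, Finset.sum_add_distrib, hx, hy]
  · simp [map_sum, key _ (Submodule.projection_apply_mem hc v)]

section defs
variable {X : Type*} [Group X] {G F H : Subgroup X}

/-- The Frobenius group `F H` normalises `G`, and its kernel has no fixed points. -/
structure Fr (G F H : Subgroup X) : Prop where
  hy : Hy G F
  nmG : H ≤ normalizer (G : Set X)
  nmF : H ≤ normalizer (F : Set X)
  reg : ∀ h ∈ H, h ≠ 1 → F ⊓ centralizer {h} = ⊥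

theorem Fr.eq_one (h : Fr G F H) {a f : X} (ha : a ∈ H) (h1 : a ≠ 1) (hf : f ∈ F)
    (e : f * a = a * f) : f = 1 :=
  (eq_bot_iff_forall _).1 (h.reg a ha h1) f ⟨hf, mem_centralizer_singleton_iff.2 e⟩

theorem Fr.mono (h : Fr G F H) {G' : Subgroup X} (hle : G' ≤ G)
    (h1 : F ≤ normalizer (G' : Set X)) (h2 : H ≤ normalizer (G' : Set X)) : Fr G' F H :=
  ⟨h.hy.mono hle h1, h2, h.nmF, h.reg⟩

theorem nm_sub {A B : Subgroup X} (h : A ≤ normalizer (B : Set X)) (Y : Subgroup X) :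
    A.subgroupOf Y ≤ normalizer ((B.subgroupOf Y : Subgroup Y) : Set Y) :=
  nm_of_conj fun _ ha _ hx => conj_mem (H := B) (h ha) hx

theorem Fr.sub (h : Fr G F H) {Y : Subgroup X} (hF : F ≤ Y) :
    Fr (G.subgroupOf Y) (F.subgroupOf Y) (H.subgroupOf Y) :=
  ⟨⟨nm_sub h.hy.nm Y, isNilpotent_subgroupOf h.hy.nil _, fun g hg e =>
    Subtype.ext (h.hy.fpf g hg fun a ha => congrArg Subtype.val (e ⟨a, hF ha⟩ ha))⟩,
    nm_sub h.nmG Y, nm_sub h.nmF Y, fun _ ha h1 => (eq_bot_iff_forall _).2 fun _ hf =>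
      Subtype.ext (h.eq_one ha (fun e => h1 (Subtype.ext e)) hf.1
        (congrArg Subtype.val (mem_centralizer_singleton_iff.1 hf.2)))⟩

theorem mk_comm_iff {N : Subgroup X} [N.Normal] {a b : X} :
    QuotientGroup.mk' N a * QuotientGroup.mk' N b = QuotientGroup.mk' N b * QuotientGroup.mk' N a ↔
      a * b * a⁻¹ * b⁻¹ ∈ N := by
  rw [← QuotientGroup.eq_one_iff, ← QuotientGroup.mk'_apply, map_mul, map_mul, map_mul, map_inv,
    map_inv, mul_inv_eq_one, mul_inv_eq_iff_eq_mul]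

variable [Finite X]

theorem Fr.quot (h : Fr G F H) {N : Subgroup X} [N.Normal] (hle : N ≤ G) :
    Fr (G.map (QuotientGroup.mk' N)) (F.map (QuotientGroup.mk' N)) (H.map (QuotientGroup.mk' N)) := by
  refine ⟨h.hy.quot hle (h.hy.mono hle (by rw [normalizer_eq_top]; exact le_top)).cov,
    map_le_normalizer_map _ h.nmG, map_le_normalizer_map _ h.nmF, ?_⟩
  rintro _ ⟨a, ha, rfl⟩ h1
  refine (eq_bot_iff_forall _).2 ?_
  rintro _ ⟨⟨f, hf, rfl⟩, e⟩
  have h2 := mk_comm_iff.1 (mem_centralizer_singleton_iff.1 e)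
  have h3 : f * a * f⁻¹ * a⁻¹ ∈ G ⊓ F := mem_inf.2 ⟨hle h2, by
    rw [show f * a * f⁻¹ * a⁻¹ = f * (a * f⁻¹ * a⁻¹) by group]
    exact mul_mem hf (conj_mem (h.nmF ha) (inv_mem hf))⟩
  rw [h.hy.inf_eq, mem_bot, mul_inv_eq_one, mul_inv_eq_iff_eq_mul] at h3
  rw [h.eq_one ha (fun e => h1 (by rw [e, map_one])) hf h3, map_one]

theorem Hy.syl_uniq (h : Hy G F) {p : ℕ} [Fact p.Prime] {P Q : Subgroup X} (hP : SylIn p P G)
    (hQ : SylIn p Q G) (h1 : F ≤ normalizer (P : Set X)) (h2 : F ≤ normalizer (Q : Set X)) :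
    P = Q := by
  obtain ⟨k, hk, e⟩ := hP.exists_conj_le hQ.isPGroup hQ.le
  have h3 : Q = cj k P := eq_of_le_of_card_ge (fun x hx => e x hx)
    (by rw [card_cj, hP.card_eq_card hQ])
  have h4 := (h.mono inf_le_left (nm_inf h.nm (nm_nm h1))).cov.fix h inf_le_left hk
    fun a ha => mem_inf.2 ⟨by
      rw [show k * a * k⁻¹ * a⁻¹ = k * (a * k⁻¹ * a⁻¹) by group]
      exact mul_mem hk (conj_mem (h.nm ha) (inv_mem hk)),
      mul_mem (mem_nm_cj.1 (h3 ▸ h2 ha)) (inv_mem (h1 ha))⟩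
  rw [h3]
  ext x
  exact mem_normalizer_iff.1 h4.2 x

theorem Hy.mem_nm_syl (h : Hy G F) {p : ℕ} [Fact p.Prime] {P : Subgroup X} (hP : SylIn p P G)
    (h1 : F ≤ normalizer (P : Set X)) {x : X} (hG : x ∈ normalizer (G : Set X))
    (hF : x ∈ normalizer (F : Set X)) : x ∈ normalizer (P : Set X) := by
  have := h.syl_uniq hP (hP.of_card_le (pg_cj x hP.isPGroup)
    (fun y hy => (mem_normalizer_iff.1 hG y).2 (hP.le hy)) (card_cj x P).ge) h1
    fun a ha => mem_nm_cj.2 (h1 (conj_mem hF ha))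
  exact mem_normalizer_iff.2 fun y => by rw [← mem_cj, ← this]

theorem Fr.syl (h : Fr G F H) (p : ℕ) [Fact p.Prime] :
    ∃ P, SylIn p P G ∧ F ≤ normalizer (P : Set X) ∧ H ≤ normalizer (P : Set X) := by
  obtain ⟨P, hP⟩ := exists_sylIn (p := p) G
  obtain ⟨Q, hQ, h1⟩ := h.hy.cov.syl h.hy.nm hP
  exact ⟨Q, hQ, h1, fun a ha => h.hy.mem_nm_syl hQ h1 (h.nmG ha) (h.nmF ha)⟩

theorem Fr.free (h : Fr G F H) {p : ℕ} [Fact p.Prime] (hE : Cfsg.IsElementaryAbelian p G) :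
    FreeMod.Free (rep hE h.nmG) := by
  have : (F.subgroupOf (F ⊔ H)).Normal :=
    normal_subgroupOf_of_le_normalizer (sup_le le_normalizer h.nmF)
  obtain ⟨W, h1, h2⟩ := FreeMod.free_of_frobenius (rep hE (sup_le h.hy.nm h.nmG))
    (F.subgroupOf _) (H.subgroupOf _)
    (by rw [← subgroupOf_sup le_sup_left le_sup_right, subgroupOf_self])
    (isNilpotent_subgroupOf h.hy.nil _) (h.sub le_sup_left).reg fun v e =>
      V.val_eq_one_iff.1 (h.hy.fpf _ v.mem fun a ha =>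
        (rep_apply_eq_self_iff _ v).1 (e ⟨a, mem_sup_left ha⟩ ha))
  refine ⟨W, top_le_iff.1 (h1.ge.trans (iSup_le fun g => le_iSup_of_le ⟨g.1.1, g.2⟩ le_rfl)), ?_⟩
  rwa [card_subgroupOf_of_le le_sup_right] at h2

theorem Fr.lift_elab (h : Fr G F H) {p : ℕ} [Fact p.Prime] (hE : Cfsg.IsElementaryAbelian p G)
    {g : X} (hg : ∀ a ∈ H, g * a * g⁻¹ * a⁻¹ ∈ G) : ∃ k ∈ G, ∀ a ∈ H, k * g * a = a * (k * g) := by
  have := Fintype.ofFinite H
  obtain ⟨π, h1, -⟩ := exists_proj (h.free hE)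
  set ρ := rep hE h.nmG
  let δ : H → V hE := fun a => ⟨_, hg a a.2⟩
  have hδ : ∀ a b, δ (a * b) = δ a + ρ a (δ b) := fun a b => V.val_injective (by
    simp only [δ, ρ, V.val_add, val_rep, coe_mul]
    group)
  set u := ∑ b, ρ b⁻¹ (π (δ b)) with hu
  have key : ∀ a, δ a + u = ρ a u := fun a => by
    rw [← h1 (δ a), hu, map_sum, ← Finset.sum_add_distrib,
      ← Equiv.sum_comp (Equiv.mulRight a) fun b => ρ a (ρ b⁻¹ (π (δ b)))]
    refine Finset.sum_congr rfl fun b _ => ?_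
    rw [← map_add, ← map_add, add_comm, ← hδ, ← Module.End.mul_apply (ρ a), ← map_mul]
    simp
  refine ⟨u.val, u.mem, fun a ha => ?_⟩
  have h2 := congrArg V.val ((add_comm _ _).trans (key ⟨a, ha⟩))
  simp only [δ, ρ, V.val_add, val_rep] at h2
  calc u.val * g * a = u.val * (g * a * g⁻¹ * a⁻¹) * a * g := by group
    _ = _ := by rw [h2]; group

theorem exists_elab {N : Subgroup X} (hs : Group.IsSolvable N) (hN : N ≠ ⊥) :
    ∃ p : ℕ, p.Prime ∧ ∃ M ≤ N, M ≠ ⊥ ∧ Cfsg.IsElementaryAbelian p M ∧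
      normalizer (N : Set X) ≤ normalizer (M : Set X) := by
  have : (N.subgroupOf (normalizer (N : Set X))).Normal := normal_in_normalizer
  obtain ⟨M, hM, hle⟩ := exists_isMinNormal_le (N.subgroupOf (normalizer (N : Set X)))
    fun e => hN (by rw [← card_eq_one, ← card_subgroupOf_of_le le_normalizer, e, card_bot])
  obtain ⟨p, hp, hE⟩ := hM.exists_isElementaryAbelian_of_isSolvable
    (isSolvable_of_le hle (isSolvable_subgroupOf hs _))
  have := hM.normal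
  refine ⟨p, hp, M.map (Subgroup.subtype _), ?_, fun e => hM.ne_bot
    ((map_eq_bot_iff_of_injective _ (subtype_injective _)).1 e), Th.elemAb_map hE _,
    le_normalizer_map_subtype _ M⟩
  rintro _ ⟨x, hx, rfl⟩
  exact hle hx

theorem Fr.exists_fix (h : Fr G F H) (hG : G ≠ ⊥) : ∃ c ∈ G, c ≠ 1 ∧ ∀ a ∈ H, c * a = a * c := by
  obtain ⟨q, hq, hd⟩ := Nat.exists_prime_and_dvd (mt card_eq_one.1 hG)
  have := Fact.mk hq
  obtain ⟨P, hP, h1, h2⟩ := h.syl q
  obtain ⟨p, hp, M, hle, hM, hE, h3⟩ := exists_elab (isSolvable_of_isPGroup hP.isPGroup)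
    (hP.ne_bot hd)
  have := Fact.mk hp
  have h4 := h.mono (hle.trans hP.le) (h1.trans h3) (h2.trans h3)
  have := Fintype.ofFinite H
  obtain ⟨π, h5, h6⟩ := exists_proj (h4.free hE)
  set ρ := rep hE h4.nmG
  obtain ⟨v, hv⟩ : ∃ v, π v ≠ 0 := by
    by_contra! e
    obtain ⟨v, hv⟩ := @exists_ne _ (nontrivial_V_iff.2 hM : Nontrivial (V hE)) 0
    exact hv (by rw [← h5 v]; simp [e])
  refine ⟨_, hP.le (hle (∑ g, ρ g (π v)).mem), fun e => hv ?_, fun a ha =>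
    ((rep_apply_eq_self_iff (hA := h4.nmG) ⟨a, ha⟩ _).1 ?_).symm⟩
  · rw [← h6, V.val_eq_one_iff.1 e, map_zero]
  · rw [map_sum, ← Equiv.sum_comp (Equiv.mulLeft (⟨a, ha⟩ : H)) fun g => ρ g (π v)]
    simp [ρ]

end defs

theorem lift_aux (n : ℕ) : ∀ (X : Type u) [Group X] [Finite X] (N F H : Subgroup X),
    Nat.card N = n → Fr N F H → ∀ g ∈ normalizer (N : Set X), (∀ a ∈ H, g * a * g⁻¹ * a⁻¹ ∈ N) →
      ∃ k ∈ N, ∀ a ∈ H, k * g * a = a * (k * g) := by
  induction n using Nat.strong_induction_on with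
  | _ n ih =>
  suffices H0 : ∀ (X : Type u) [Group X] [Finite X] (N F H : Subgroup X), N.Normal →
      Nat.card N = n → Fr N F H → ∀ g, (∀ a ∈ H, g * a * g⁻¹ * a⁻¹ ∈ N) →
      ∃ k ∈ N, ∀ a ∈ H, k * g * a = a * (k * g) by
    intro X _ _ N F H hn h g hg e
    obtain ⟨k, hk, e'⟩ := H0 (normalizer (N : Set X)) (N.subgroupOf _) (F.subgroupOf _)
      (H.subgroupOf _) normal_in_normalizer (by rw [card_subgroupOf_of_le le_normalizer, hn])
      (h.sub h.hy.nm) ⟨g, hg⟩ fun a ha => e a ha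
    exact ⟨k, hk, fun a ha => congrArg Subtype.val (e' ⟨a, h.nmG ha⟩ ha)⟩
  intro X _ _ N F H hNn hn h g hg
  by_cases h1 : ∃ p : ℕ, ∃ _ : Fact p.Prime, ∃ P, SylIn p P N ∧ F ≤ normalizer (P : Set X) ∧
      H ≤ normalizer (P : Set X) ∧ ¬ N ≤ normalizer (P : Set X)
  · obtain ⟨p, _, P, hP, h1, h2, h3⟩ := h1
    obtain ⟨k, hk, e⟩ := hP.frattini (g := g) (by rw [normalizer_eq_top]; trivial)
    obtain ⟨m, hm, e'⟩ := ih _ (hn ▸ card_lt_of_lt (inf_lt_left.2 h3)) X _ F H rfl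
      (h.mono inf_le_left (nm_inf h.hy.nm (nm_nm h1)) (nm_inf h.nmG (nm_nm h2))) (k * g)
      (inf_normalizer_le_normalizer_inf ⟨by rw [normalizer_eq_top]; trivial, le_normalizer e⟩)
      fun a ha => mem_inf.2 ⟨by
        rw [show k * g * a * (k * g)⁻¹ * a⁻¹ = k * (g * a * g⁻¹ * a⁻¹) * (a * k⁻¹ * a⁻¹) by group]
        exact mul_mem (mul_mem hk (hg a ha)) (hNn.conj_mem _ (inv_mem hk) a),
        mul_mem (mul_mem (mul_mem e (h2 ha)) (inv_mem e)) (inv_mem (h2 ha))⟩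
    exact ⟨m * k, mul_mem hm.1 hk, by simpa only [mul_assoc] using e'⟩
  push Not at h1
  by_cases hN : N = ⊥
  · refine ⟨1, one_mem _, fun a ha => ?_⟩
    have := hg a ha
    rwa [hN, mem_bot, mul_inv_eq_one, mul_inv_eq_iff_eq_mul, ← one_mul g] at this
  obtain ⟨p, hp, hd⟩ := Nat.exists_prime_and_dvd (mt card_eq_one.1 hN)
  have := Fact.mk hp
  obtain ⟨P, hP, h2, h3⟩ := h.syl p
  have h4 : P.Normal := normalizer_eq_top_iff.1 (top_le_iff.1 fun x _ => by
    obtain ⟨k, hk, e⟩ := hP.frattini (g := x) (by rw [normalizer_eq_top]; trivial)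
    simpa using mul_mem (inv_mem (h1 p this P hP h2 h3 hk)) e)
  obtain ⟨M, hM, hle⟩ := exists_isMinNormal_le P (hP.ne_bot hd)
  have hE := hM.isElementaryAbelian_of_isPGroup (hP.isPGroup.to_le hle)
  have := hM.normal
  have hMN := hle.trans hP.le
  obtain ⟨_, ⟨k, hk, rfl⟩, e⟩ := ih (Nat.card (N.map (QuotientGroup.mk' M))) (by
      rw [← hn, ← card_map_mk'_mul N M, inf_eq_right.2 hMN]
      exact lt_mul_of_one_lt_right Nat.card_pos ((one_lt_card_iff_ne_bot _).2 hM.ne_bot))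
    _ _ _ _ rfl (h.quot hMN) (QuotientGroup.mk' M g)
    (map_le_normalizer_map _ (A := ⊤) (by rw [normalizer_eq_top]) ⟨g, trivial, rfl⟩) (by
      rintro _ ⟨a, ha, rfl⟩
      exact ⟨_, hg a ha, by simp⟩)
  obtain ⟨m, hm, e'⟩ := (h.mono hMN (by rw [normalizer_eq_top]; exact le_top)
    (by rw [normalizer_eq_top]; exact le_top)).lift_elab hE (g := k * g) fun a ha =>
      mk_comm_iff.1 (by rw [map_mul]; exact e _ ⟨a, ha, rfl⟩)
  exact ⟨m * k, mul_mem (hMN hm) hk, by simpa only [mul_assoc] using e'⟩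

variable {X : Type u} [Group X] [Finite X] {G F H : Subgroup X}

/-- Fixed points of the complement modulo `G` are covered by fixed points. -/
theorem Fr.lift (h : Fr G F H) {g : X} (hg : g ∈ normalizer (G : Set X))
    (e : ∀ a ∈ H, g * a * g⁻¹ * a⁻¹ ∈ G) : ∃ k ∈ G, ∀ a ∈ H, k * g * a = a * (k * g) :=
  lift_aux _ X G F H rfl h g hg e

theorem Fr.fix_mod (h : Fr G F H) {M : Subgroup X} (hlt : M < G) (h1 : G ≤ normalizer (M : Set X))
    (h2 : F ≤ normalizer (M : Set X)) (h3 : H ≤ normalizer (M : Set X)) :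
    ∃ c ∈ G, c ∉ M ∧ ∀ a ∈ H, c * a = a * c := by
  have : (M.subgroupOf (normalizer (M : Set X))).Normal := normal_in_normalizer
  obtain ⟨_, ⟨x, hx, rfl⟩, h4, e⟩ := ((h.sub h2).quot (N := M.subgroupOf _)
    (comap_mono hlt.le)).exists_fix fun e => hlt.not_ge fun x hx =>
      (map_mk'_eq_bot_iff _ _).1 e (show (⟨x, h1 hx⟩ : normalizer (M : Set X)) ∈ _ from hx)
  obtain ⟨k, hk, e'⟩ := (h.mono hlt.le h2 h3).lift x.2 fun a ha =>
    (mk_comm_iff (N := M.subgroupOf _)).1 (e _ ⟨⟨a, h3 ha⟩, ha, rfl⟩)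
  exact ⟨_, mul_mem (hlt.le hk) hx, fun e => h4 ((QuotientGroup.eq_one_iff x).2
    ((mul_mem_cancel_left hk).1 e)), e'⟩

/-- `G` is generated by the `F`-conjugates of the fixed points of `H`. -/
theorem Fr.gen (h : Fr G F H) {L : Subgroup X}
    (hL : ∀ c ∈ G, (∀ a ∈ H, c * a = a * c) → ∀ f ∈ F, f * c * f⁻¹ ∈ L) : G ≤ L := by
  let S := closure {x | ∃ c ∈ G, (∀ a ∈ H, c * a = a * c) ∧ ∃ f ∈ F, x = f * c * f⁻¹}
  have key : ∀ A : Subgroup X, (∀ a ∈ A, ∀ c ∈ G, (∀ a ∈ H, c * a = a * c) → ∀ f ∈ F,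
      ∃ g ∈ F, a * (f * c * f⁻¹) * a⁻¹ = g * c * g⁻¹) → A ≤ normalizer (S : Set X) := fun A hA =>
    nm_of_conj fun a ha => (closure_le (cj a S)).2 (by
      rintro _ ⟨c, hc, e, f, hf, rfl⟩
      obtain ⟨g, hg, e'⟩ := hA a ha c hc e f hf
      exact subset_closure ⟨c, hc, e, g, hg, e'⟩)
  have h1 := key F fun a ha c _ _ f hf => ⟨a * f, mul_mem ha hf, by group⟩
  have h2 := key H fun a ha c _ e f hf => ⟨_, conj_mem (h.nmF ha) hf, by
    calc a * (f * c * f⁻¹) * a⁻¹ = a * f * a⁻¹ * (a * c) * f⁻¹ * a⁻¹ := by group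
      _ = _ := by rw [← e a ha]; group⟩
  refine le_trans (le_of_exists_sylow_le fun p _ => ?_) ((closure_le L).2 (by
    rintro _ ⟨c, hc, e, f, hf, rfl⟩
    exact hL c hc e f hf) : S ≤ L)
  obtain ⟨P, hP, h3, h4⟩ := h.syl p
  refine ⟨hP.toSylow, ?_⟩
  rw [hP.map_toSylow]
  by_contra hne
  obtain ⟨g, hg, h5, h6⟩ := exists_normalizer_growth hP.isPGroup (inf_lt_left.2 hne)
  obtain ⟨c, hc, h7, e⟩ := (h.mono (G' := P ⊓ normalizer ((P ⊓ S : Subgroup X) : Set X))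
    (inf_le_left.trans hP.le) (nm_inf h3 (nm_nm (nm_inf h3 h1)))
    (nm_inf h4 (nm_nm (nm_inf h4 h2)))).fix_mod
    (lt_of_le_of_ne (le_inf inf_le_left le_normalizer) fun e => h5 (e.ge ⟨hg, h6⟩)) inf_le_right
    (nm_inf h3 h1) (nm_inf h4 h2)
  exact h7 ⟨hc.1, subset_closure ⟨c, hP.le hc.1, e, 1, one_mem _, by simp⟩⟩

open CL.Hol in
theorem hol_fr {G A : Type*} [Group G] [Group A] [Finite A] [MulDistribMulAction A G]
    {Fk Hc : Subgroup A} (hHc : Cfsg.IsFrobeniusComplement Hc)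
    (hker : Cfsg.frobeniusKernel Hc = (Fk : Set A)) {N : Subgroup G}
    (hNA : ∀ (a : A) (n : G), n ∈ N → a • n ∈ N)
    (hC : ∀ n ∈ N, (∀ f ∈ Fk, f • n = n) → n = 1) :
    Fr (N.map (inl : G →* Hol A G)) (Fk.map inr) (Hc.map inr) := by
  obtain ⟨K, hK, hn, -, -, hreg, hnil⟩ := Frob.exists_nilpotent_kernel hHc
  obtain rfl : K = Fk := SetLike.coe_injective (hK.trans hker)
  refine ⟨⟨map_inr_le_normalizer_iff.2 fun b _ => hNA b, isNilpotent_map _ _, ?_⟩,
    map_inr_le_normalizer_iff.2 fun b _ => hNA b,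
    map_le_normalizer_map _ (by rw [normalizer_eq_top]; exact le_top), ?_⟩
  · rintro _ ⟨x, hx, rfl⟩ e
    rw [hC x hx fun f hf => inl_injective (A := A) ?_, map_one]
    rw [← conj_inl, e _ ⟨f, hf, rfl⟩, mul_inv_cancel_right]
  · rintro _ ⟨a, ha, rfl⟩ h1
    refine (eq_bot_iff_forall _).2 ?_
    rintro _ ⟨⟨f, hf, rfl⟩, e⟩
    rw [(eq_bot_iff_forall _).1 (hreg a ha fun e => h1 (by rw [e, map_one])) f ⟨hf,
      mem_centralizer_singleton_iff.2 (inr_injective (G := G) (by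
        simpa only [map_mul] using mem_centralizer_singleton_iff.1 e))⟩, map_one]

open CL.Hol in
theorem hol_comm {G A : Type*} [Group G] [Group A] [MulDistribMulAction A G] {B : Subgroup A}
    {c : G} : (∀ a ∈ B.map (inr : A →* Hol A G), inl c * a = a * inl c) ↔ ∀ b ∈ B, b • c = c :=
  ⟨fun e => inl_mem_centralizer_iff.1 fun a ha => (e a ha).symm,
    fun e a ha => (inl_mem_centralizer_iff.2 e a ha).symm⟩

end CL.FroA
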