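import Mathlib
import Cfsg.Agent.SOLV.FH.Fr

/-!
# A Frobenius group of operators on a coprime metabelian section
-/

set_option autoImplicit false

open Subgroup
open scoped Pointwise

namespace CL.FroA

open CL.Misc CL.Abelem

section
variable {X : Type*} [Group X] [Finite X] {G F H : Subgroup X}

theorem Fr.surj (h : Fr G F H) {a : X} (ha : a ∈ H) (h1 : a ≠ 1) {S : Subgroup X} (hS : S ≤ F)
    (hn : a ∈ normalizer (S : Set X)) {y : X} (hy : y ∈ S) : ∃ x ∈ S, y = x⁻¹ * a * x * a⁻¹ := by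
  have key : ∀ x ∈ S, x⁻¹ * a * x * a⁻¹ ∈ S := fun x hx => by
    rw [show x⁻¹ * a * x * a⁻¹ = x⁻¹ * (a * x * a⁻¹) by group]
    exact mul_mem (inv_mem hx) (conj_mem hn hx)
  obtain ⟨x, e⟩ := Finite.surjective_of_injective (f := fun x : S => (⟨_, key x x.2⟩ : S))
    (fun x y e => by
      have e1 : (x : X)⁻¹ * a * x * a⁻¹ = (y : X)⁻¹ * a * y * a⁻¹ := congrArg Subtype.val e
      refine Subtype.ext (mul_inv_eq_one.1 (h.eq_one ha h1 (hS (mul_mem x.2 (inv_mem y.2))) ?_))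
      calc (x : X) * (y : X)⁻¹ * a = x * ((y : X)⁻¹ * a * y * a⁻¹) * a * (y : X)⁻¹ := by group
        _ = _ := by rw [← e1]; group) ⟨y, hy⟩
  exact ⟨x, x.2, (congrArg Subtype.val e).symm⟩

theorem Fr.mem_of_comm (h : Fr G F H) {a : X} (ha : a ∈ H) (h1 : a ≠ 1) {S : Subgroup X}
    (haS : a ∈ S) {f : X} (hf : f ∈ F) (e : f⁻¹ * a * f ∈ S) : f ∈ S := by
  obtain ⟨x, hx, e1⟩ := h.surj ha h1 (S := S ⊓ F) inf_le_right
    (inf_normalizer_le_normalizer_inf ⟨le_normalizer haS, h.nmF ha⟩) (y := f⁻¹ * a * f * a⁻¹)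
    <| mem_inf.2 ⟨mul_mem e (inv_mem haS), by
      rw [show f⁻¹ * a * f * a⁻¹ = f⁻¹ * (a * f * a⁻¹) by group]
      exact mul_mem (inv_mem hf) (conj_mem (h.nmF ha) hf)⟩
  have := h.eq_one ha h1 (mul_mem hf (inv_mem hx.2)) (by
    calc f * x⁻¹ * a = f * (x⁻¹ * a * x * a⁻¹) * a * x⁻¹ := by group
      _ = _ := by rw [← e1]; group)
  rw [mul_inv_eq_one.1 this]
  exact hx.1

theorem Fr.mem_of_conj (h : Fr G F H) {a b : X} (ha : a ∈ H) (h1 : a ≠ 1) (hb : b ∈ H)
    (h2 : b ≠ 1) {S : Subgroup X} (haS : a ∈ S) {f : X} (hf : f ∈ F) (e : f⁻¹ * b * f ∈ S) :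
    f ∈ S := by
  have := h.hy.nil
  obtain ⟨k, hk, e1⟩ := coprime_le_conj (H ⊓ (F ⊔ (S ⊓ normalizer (F : Set X)))) F S
    (inf_le_left.trans h.nmF) ((BG.regular_norm_coprime h.nmF h.reg).symm.coprime_dvd_left
      (card_dvd_of_le inf_le_left)) (Or.inr inferInstance) fun x hx => by
      obtain ⟨y, hy, z, hz, rfl⟩ := (mem_sup_of_le_normalizer' inf_le_right).1 hx.2
      exact ⟨y, hy, z, hz.1, rfl⟩
  have h3 := h.mem_of_comm ha h1 haS hk
    (mem_conj_smul_iff.1 (e1 ⟨ha, mem_sup_right ⟨haS, h.nmF ha⟩⟩))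
  have h4 := mem_conj_smul_iff.1 (e1 (mem_inf.2 ⟨hb, (mem_sup_of_le_normalizer' inf_le_right).2
    ⟨_, mul_mem (conj_mem (h.nmF hb) (inv_mem hf)) hf, _, mem_inf.2 ⟨e, mul_mem (mul_mem
      (le_normalizer (inv_mem hf)) (h.nmF hb)) (le_normalizer hf)⟩, by group⟩⟩))
  exact h.mem_of_comm hb h2 (by simpa [mul_assoc] using conj_mem (le_normalizer h3) h4) hf e

end

theorem indep_fix {k X M ι : Type*} [CommRing k] [Group X] [AddCommGroup M] [Module k M]
    (ρ : Representation k X M) {A : Subgroup X} (hA : ∀ a ∈ A, ∀ b ∈ A, a * b = b * a)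
    (K : ι → Subgroup X) (hK : ∀ i, K i ≤ A)
    (hmax : ∀ i v, v ≠ 0 → (∀ a ∈ K i, ρ a v = v) → ∀ a ∈ A, ρ a v = v → a ∈ K i)
    (hne : ∀ i j, i ≠ j → ¬ K j ≤ K i) (s : Finset ι) : ∀ w : ι → M,
      (∀ i, ∀ a ∈ K i, ρ a (w i) = w i) → ∑ i ∈ s, w i = 0 → ∀ i ∈ s, w i = 0 := by
  classical
  induction s using Finset.induction_on with
  | empty => simp
  | insert j s hj ih =>
  intro w hw e
  rw [Finset.sum_insert hj] at e
  have key : ∀ i ∈ s, w i = 0 := fun i hi => by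
    by_contra h0
    refine hne i j (fun e => hj (e ▸ hi)) fun a ha => hmax i _ h0 (hw i) a (hK j ha)
      (sub_eq_zero.1 (ih (fun i => ρ a (w i) - w i) (fun i b hb => ?_) ?_ i hi))
    · rw [map_sub, hw i b hb, ← Module.End.mul_apply, ← map_mul, hA b (hK i hb) a (hK j ha),
        map_mul, Module.End.mul_apply, hw i b hb]
    · rw [Finset.sum_sub_distrib, ← map_sum, eq_neg_of_add_eq_zero_right e, map_neg, hw j a ha,
        sub_self]
  intro i hi
  rcases Finset.mem_insert.1 hi with rfl | hi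
  · rwa [Finset.sum_eq_zero key, add_zero] at e
  · exact key i hi

variable {X : Type*} [Group X] [Finite X] {V A F H K : Subgroup X}

/-- A subgroup of `A` of largest order with fixed points in `V`. -/
def Mx (V A K : Subgroup X) : Prop := K ≤ A ∧ V ⊓ centralizer (K : Set X) ≠ ⊥ ∧
  ∀ L ≤ A, V ⊓ centralizer (L : Set X) ≠ ⊥ → Nat.card L ≤ Nat.card K

omit [Finite X] in
theorem Mx.cj [hV : V.Normal] (h : Mx V A K) {x : X} (hx : x ∈ normalizer (A : Set X)) :
    Mx V A (cj x K) := by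
  refine ⟨fun y hy => (mem_normalizer_iff.1 hx y).2 (h.1 hy), fun e => h.2.1
    ((eq_bot_iff_forall _).2 fun v hv => ?_), fun L h1 h2 => (card_cj x K).symm ▸ h.2.2 L h1 h2⟩
  have := (eq_bot_iff_forall _).1 e (x⁻¹ * v * x⁻¹⁻¹) ⟨hV.conj_mem v hv.1 _, fun y hy => by
    calc y * (x⁻¹ * v * x⁻¹⁻¹) = x⁻¹ * (x * y * x⁻¹ * v) * x := by group
      _ = _ := by rw [hv.2 _ (mem_cj.1 hy)]; group⟩
  exact conj_eq_one_iff.1 this

theorem Mx.eq (h : Mx V A K) {L : Subgroup X} (h1 : K ≤ L) (h2 : L ≤ A)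
    (h3 : V ⊓ centralizer (L : Set X) ≠ ⊥) : K = L := eq_of_le_of_card_ge h1 (h.2.2 L h2 h3)

theorem Mx.mem (h : Mx V A K) {v : X} (hv : v ∈ V) (h1 : v ≠ 1) (hK : ∀ a ∈ K, a * v = v * a)
    {a : X} (ha : a ∈ A) (e : a * v = v * a) : a ∈ K := by
  rw [h.eq (L := A ⊓ centralizer {v}) (fun x hx => ⟨h.1 hx, mem_centralizer_singleton_iff.2
    (hK x hx)⟩) inf_le_left fun e => h1 ((eq_bot_iff_forall _).1 e v ⟨hv, fun y hy =>
      mem_centralizer_singleton_iff.1 hy.2⟩)]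
  exact ⟨ha, mem_centralizer_singleton_iff.2 e⟩

theorem Mx.case_free [V.Normal] {p : ℕ} (hE : Cfsg.IsElementaryAbelian p V)
    (hA : ∀ a ∈ A, ∀ b ∈ A, a * b = b * a) (hH : H ≤ normalizer (A : Set X)) (h : Mx V A K)
    (h1 : ∀ a ∈ H, a ∈ normalizer (K : Set X) → a = 1) {c : X} (hc : c ∈ A)
    (h3 : ∀ u ∈ V, (∀ a ∈ H, u * a = a * u) → c * u = u * c) : c ∈ K := by
  have := Fintype.ofFinite H
  let ρ : Representation (ZMod p) X (Abelem.V hE) :=
    (rep hE (A := ⊤) (by rw [normalizer_eq_top])).comp topEquiv.symm.toMonoidHom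
  have hρ : ∀ a v, ρ a v = v ↔ a * v.val = v.val * a := fun a v =>
    rep_apply_eq_self_iff (hA := by rw [normalizer_eq_top]) (⟨a, trivial⟩ : (⊤ : Subgroup X)) v
  obtain ⟨⟨w, hw⟩, h4⟩ := ne_bot_iff_exists_ne_one.1 h.2.1
  let v : Abelem.V hE := ⟨w, hw.1⟩
  have hm : ∀ a : H, Mx V A (FroA.cj (a : X)⁻¹ K) := fun a => h.cj (inv_mem (hH a.2))
  have h5 : ∀ (i : H), ∀ a ∈ FroA.cj (i : X)⁻¹ K, ρ a (ρ i v) = ρ i v := fun i a ha => by
    conv_rhs => rw [← (hρ _ v).2 (hw.2 _ (mem_cj.1 ha))]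
    simp only [← Module.End.mul_apply, ← map_mul]
    congr 2
    group
  have h6 := indep_fix ρ hA (fun a : H => FroA.cj (a : X)⁻¹ K) (fun i => (hm i).1)
    (fun i u hu e a ha e' => (hm i).mem u.mem (mt Abelem.V.val_eq_one_iff.1 hu)
      (fun a ha => (hρ a u).1 (e a ha)) ha ((hρ a u).1 e'))
    (fun i j hij e => hij (Subtype.ext (inv_mul_eq_one.1 (h1 _ (mul_mem (inv_mem i.2) j.2)
      (mem_normalizer_iff.2 fun y => by
        have := SetLike.ext_iff.1 ((hm j).eq e (hm i).1 (hm i).2.1) (j * y * (j : X)⁻¹)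
        rw [mem_cj, mem_cj] at this
        convert this using 2 <;> group))))) Finset.univ (fun i => ρ c (ρ i v) - ρ i v)
    (fun i a ha => by
      rw [map_sub, h5 i a ha, ← Module.End.mul_apply (ρ a), ← map_mul, hA a ((hm i).1 ha) c hc,
        map_mul, Module.End.mul_apply, h5 i a ha])
    (by
      rw [Finset.sum_sub_distrib, ← map_sum, sub_eq_zero, hρ]
      refine h3 _ (Abelem.V.mem _) fun a ha => ((hρ a _).1 ?_).symm
      rw [map_sum, ← Equiv.sum_comp (Equiv.mulLeft (⟨a, ha⟩ : H)) fun g => ρ g v]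
      simp) 1 (Finset.mem_univ _)
  refine h.mem hw.1 (fun e => h4 (Subtype.ext e)) hw.2 hc ((hρ c v).1 ?_)
  simpa [sub_eq_zero] using h6

theorem Mx.cyc (hV : A ≤ normalizer (V : Set X)) [IsMulCommutative A]
    (hc : (Nat.card A).Coprime (Nat.card V)) (h : Mx V A K) : ∃ a ∈ A, K ⊔ zpowers a = A := by
  by_contra! hne
  refine h.2.1 (le_bot_iff.1 (coprime_le_of_forall_cyclic_quotient A _ ⊥ (nm_inf hV (nm_cen
    ((le_centralizer_of_le_of_isMulCommutative h.1).trans (centralizer_le_normalizer _))))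
    (hc.coprime_dvd_right (card_dvd_of_le inf_le_left)) fun B a e => ?_))
  by_contra h1
  have h2 := h.eq (L := K ⊔ B) le_sup_left (sup_le h.1 (e ▸ le_sup_left)) fun e' => h1 (e' ▸
    le_inf (inf_le_left.trans inf_le_left) (le_centralizer_iff.1 (sup_le (le_centralizer_iff.1
      (inf_le_left.trans inf_le_right)) (le_centralizer_iff.1 inf_le_right))))
  exact hne a (e ▸ mem_sup_right (mem_zpowers a)) (le_antisymm (sup_le h.1 (e ▸ le_sup_right))
    (e.ge.trans (sup_le_sup_right (le_sup_right.trans h2.ge) _)))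

theorem Mx.mem_fix [V.Normal] {p : ℕ} (hE : Cfsg.IsElementaryAbelian p V)
    [hA : IsMulCommutative A] (hF : Fr A F H) (hc1 : (Nat.card A).Coprime (Nat.card V))
    (hc2 : (Nat.card F).Coprime (Nat.card A)) (h : Mx V A K) {c : X} (hc : c ∈ A)
    (h3 : ∀ u ∈ V, (∀ a ∈ H, u * a = a * u) → c * u = u * c) : c ∈ K := by
  classical
  have hA' : ∀ a ∈ A, ∀ b ∈ A, a * b = b * a := fun a ha b hb =>
    congrArg Subtype.val (hA.is_comm.comm (⟨a, ha⟩ : A) ⟨b, hb⟩)
  by_cases h1 : ∀ a ∈ H, a ∈ normalizer (K : Set X) → a = 1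
  · exact h.case_free hE hA' hF.nmG h1 hc h3
  push Not at h1
  obtain ⟨b, hb, hbK, hb1⟩ := h1
  obtain ⟨a, ha, e⟩ := h.cyc (by rw [normalizer_eq_top]; exact le_top) hc1
  let _ : CommGroup A := { (inferInstance : Group A) with mul_comm := hA.is_comm.comm }
  let φ := QuotientGroup.mk' (K.subgroupOf A)
  let σ := A.normalizerMonoidHom
  have hφ : ∀ x : A, φ x = 1 ↔ (x : X) ∈ K := fun x => QuotientGroup.eq_one_iff x
  have dec : ∀ x : A, ∃ k : A, (k : X) ∈ K ∧ ∃ n : ℤ, x = k * ⟨a, ha⟩ ^ n := fun x => by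
    obtain ⟨y, hy, _, ⟨n, rfl⟩, e'⟩ := (mem_sup_of_le_normalizer' ((zpowers_le.2 ha).trans
      ((le_centralizer_of_le_of_isMulCommutative h.1).trans (centralizer_le_normalizer _)))).1
      (e.ge x.2)
    exact ⟨⟨y, h.1 hy⟩, hy, n, Subtype.ext e'.symm⟩
  have pw : ∀ x : normalizer (A : Set X), x.1 ∈ normalizer (K : Set X) →
      ∃ n : ℤ, ∀ y, φ (σ x y) = φ y ^ n := fun x hx => by
    obtain ⟨k, hk, n, e1⟩ := dec (σ x ⟨a, ha⟩)
    refine ⟨n, fun y => ?_⟩
    obtain ⟨l, hl, m, rfl⟩ := dec y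
    simp only [map_mul, map_zpow, e1, (hφ k).2 hk, (hφ l).2 hl, (hφ (σ x l)).2 (conj_mem hx hl),
      one_mul, ← zpow_mul, mul_comm]
  have := Fintype.ofFinite F
  have key : ∀ f : F, φ (σ ⟨f, hF.hy.nm f.2⟩ ⟨c, hc⟩) =
      if f ∈ (normalizer (K : Set X)).subgroupOf F then φ ⟨c, hc⟩ else 1 := fun f => by
    split_ifs with hf
    · obtain ⟨x, hx, e1⟩ := hF.surj hb hb1 (S := normalizer (K : Set X) ⊓ F) inf_le_right
        (inf_normalizer_le_normalizer_inf ⟨le_normalizer hbK, hF.nmF hb⟩) (y := f) ⟨hf, f.2⟩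
      obtain ⟨n, hn⟩ := pw ⟨x, hF.hy.nm hx.2⟩ hx.1
      obtain ⟨n', hn'⟩ := pw ⟨x, hF.hy.nm hx.2⟩⁻¹ (inv_mem hx.1)
      obtain ⟨m, hm⟩ := pw ⟨b, hF.nmG hb⟩ hbK
      have e2 : (⟨f, hF.hy.nm f.2⟩ : normalizer (A : Set X)) = ⟨x, hF.hy.nm hx.2⟩⁻¹ *
        ⟨b, hF.nmG hb⟩ * ⟨x, hF.hy.nm hx.2⟩ * ⟨b, hF.nmG hb⟩⁻¹ := Subtype.ext e1
      rw [e2, map_mul, map_mul, map_mul, MulAut.mul_apply, MulAut.mul_apply, MulAut.mul_apply, hn',
        hm, hn, ← zpow_mul _ n, mul_comm, zpow_mul, ← hm, ← MulAut.mul_apply, ← map_mul,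
        mul_inv_cancel, map_one, MulAut.one_apply, ← hn, ← hn', ← MulAut.mul_apply, ← map_mul,
        inv_mul_cancel, map_one, MulAut.one_apply]
    · refine (hφ _).2 ((h.cj (hF.hy.nm f.2)).case_free hE hA' hF.nmG (fun x hx e1 => ?_) hc h3)
      by_contra hx1
      exact hf (mem_subgroupOf.2 (inv_mem_iff.1 (hF.mem_of_conj hb hb1 hx hx1 hbK (inv_mem f.2)
        (by rw [inv_inv]; exact mem_nm_cj.1 e1))))
  have h4 : ∏ f : F, σ ⟨f, hF.hy.nm f.2⟩ ⟨c, hc⟩ = 1 := Subtype.ext (hF.hy.fpf _ (Subtype.prop _)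
    fun g hg => by
      rw [← mul_inv_eq_iff_eq_mul]
      refine congrArg Subtype.val (show σ ⟨g, hF.hy.nm hg⟩ _ = _ from ?_)
      rw [map_prod, ← Equiv.prod_comp (Equiv.mulLeft (⟨g, hg⟩ : F))
        fun f : F => σ ⟨f, hF.hy.nm f.2⟩ ⟨c, hc⟩]
      refine Finset.prod_congr rfl fun f _ => ?_
      rw [← MulAut.mul_apply, ← map_mul]
      rfl)
  have h5 := congrArg φ h4
  rw [map_prod, map_one, Finset.prod_congr rfl fun f _ => key f, ← Finset.prod_filter,
    Finset.prod_const, ← Fintype.card_subtype, ← Nat.card_eq_fintype_card] at h5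
  refine (hφ ⟨c, hc⟩).1 (orderOf_eq_one_iff.1 (Nat.eq_one_of_dvd_coprimes hc2
    ((orderOf_dvd_of_pow_eq_one h5).trans (card_subgroup_dvd_card _))
    ((orderOf_map_dvd φ _).trans (orderOf_dvd_natCard _))))

theorem Fr.key [V.Normal] {p : ℕ} (hE : Cfsg.IsElementaryAbelian p V)
    [IsMulCommutative A] (hF : Fr A F H) (hc1 : (Nat.card A).Coprime (Nat.card V))
    (hc2 : (Nat.card F).Coprime (Nat.card A))
    (h3 : ∀ c ∈ A, (∀ a ∈ H, c * a = a * c) → ∀ u ∈ V, (∀ a ∈ H, u * a = a * u) → c * u = u * c)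
    (h0 : V ⊓ centralizer (A : Set X) = ⊥) : V = ⊥ := by
  by_contra hV
  obtain ⟨K, hK, hmax⟩ := Set.exists_max_image {K : Subgroup X | K ≤ A ∧
    V ⊓ centralizer (K : Set X) ≠ ⊥} (fun K => Nat.card K) (Set.toFinite _)
    ⟨⊥, bot_le, by rwa [inf_eq_left.2 (le_centralizer_iff.1 bot_le)]⟩
  have h : Mx V A K := ⟨hK.1, hK.2, fun L h1 h2 => hmax L ⟨h1, h2⟩⟩
  refine hK.2 (le_bot_iff.1 ((inf_le_inf_left _ (centralizer_le (hF.gen fun c hc e f hf => ?_))).trans
    h0.le))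
  exact (h.cj (hF.hy.nm hf)).mem_fix hE hF hc1 hc2 hc (h3 c hc e)

omit [Finite X] in
theorem nm_top {N : Subgroup X} [N.Normal] (A : Subgroup X) : A ≤ normalizer (N : Set X) := by
  rw [normalizer_eq_top]; exact le_top

theorem Fr.qt (h : Fr A F H) {q : ℕ} [Fact q.Prime] (hA : IsPGroup q A) : Fr A (qt q F) H := by
  have hq : FroA.qt q F ≤ F := map_subtype_le _
  refine ⟨⟨hq.trans h.hy.nm, isNilpotent_of_le h.hy.nil hq, fun g hg e => ?_⟩, h.nmG,
    h.nmF.trans (normalizer_le_normalizer_map_pPrimeCore F), fun a ha h1 =>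
      le_bot_iff.1 ((inf_le_inf_right _ hq).trans (h.reg a ha h1).le)⟩
  by_contra hne
  refine inf_centralizer_ne_bot_of_isPGroup
    (V := A ⊓ centralizer ((FroA.qt q F : Subgroup X) : Set X)) hA.to_inf_left (pt_pg q F)
    ((map_subtype_le _).trans (nm_inf h.hy.nm (nm_cen (nm_qt q F))))
    (fun e' => hne ((eq_bot_iff_forall _).1 e' g ⟨hg, e⟩))
    ((eq_bot_iff_forall _).2 fun x hx => h.hy.fpf x hx.1.1 fun a ha => ?_)
  rw [← pt_sup_qt q h.hy.nil] at ha
  exact ((sup_le (le_centralizer_iff.1 (zpowers_le.2 hx.2)) (le_centralizer_iff.1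
    (zpowers_le.2 hx.1.2))) ha x (mem_zpowers x)).symm

theorem Fr.nil_quot {G : Subgroup X} (h : Fr G F H) {N : Subgroup X} [N.Normal] (hle : N ≤ G)
    (hC : Group.IsNilpotent (G ⊓ centralizer (H : Set X) : Subgroup X)) :
    Group.IsNilpotent (G.map (QuotientGroup.mk' N) ⊓
      centralizer ((H.map (QuotientGroup.mk' N) : Subgroup (X ⧸ N)) : Set (X ⧸ N)) : Subgroup _) := by
  refine isNilpotent_of_le (isNilpotent_map (G ⊓ centralizer (H : Set X)) (QuotientGroup.mk' N)) ?_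
  rintro _ ⟨⟨g, hg, rfl⟩, e⟩
  obtain ⟨k, hk, e'⟩ := (h.mono hle (nm_top _) (nm_top _)).lift (nm_top ⊤ (mem_top g))
    fun a ha => mk_comm_iff.1 (e _ ⟨a, ha, rfl⟩).symm
  exact ⟨k * g, ⟨mul_mem (hle hk) hg, fun a ha => (e' a ha).symm⟩, by
    simp [(QuotientGroup.eq_one_iff k).2 hk]⟩

theorem normal_sup_of_nil {G N Q : Subgroup X} [G.Normal] [N.Normal] {q : ℕ} [Fact q.Prime]
    (hQ : SylIn q Q G) (h : Group.IsNilpotent (G.map (QuotientGroup.mk' N))) : (Q ⊔ N).Normal := by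
  have h1 := hQ.map (QuotientGroup.mk' N)
  have : (G.map (QuotientGroup.mk' N)).Normal := Normal.map ‹_› _ (QuotientGroup.mk'_surjective N)
  rw [← comap_map_mk', ← h1.map_toSylow, sylow_eq_pCore_of_isNilpotent]
  infer_instance

open Cfsg in
theorem Fr.exists_normal {G : Subgroup X} (h : Fr G F H) (hT : G ⊔ F ⊔ H = ⊤)
    (hp : ∀ p : ℕ, p.Prime → ¬ IsPGroup p G)
    (ihs : ∀ L < G, F ≤ normalizer (L : Set X) → H ≤ normalizer (L : Set X) →
      Group.IsNilpotent L) : ∃ N : Subgroup X, N.Normal ∧ N ≠ ⊥ ∧ N < G := by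
  have hn : ∀ L : Subgroup X, G ≤ normalizer (L : Set X) → F ⊔ H ≤ normalizer (L : Set X) →
      L.Normal := fun L h1 h2 =>
    normalizer_eq_top_iff.1 (top_le_iff.1 (by rw [← hT, sup_assoc]; exact sup_le h1 h2))
  obtain ⟨q, hq, hqd, hq2⟩ : ∃ q, q.Prime ∧ q ∣ Nat.card G ∧ q ≠ 2 := by
    by_contra! hcon
    exact hp 2 Nat.prime_two (isPGroup_iff_isPiNum.2 fun q hq hqd => hcon q hq hqd)
  have := Fact.mk hq
  obtain ⟨Q, hQ, h1, h2⟩ := h.syl q
  have hP := sup_le h1 h2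
  have hRK := sup_le h.hy.nm h.nmG
  have hQb := hQ.ne_bot hqd
  have hlt : Q < G := lt_of_le_of_ne hQ.le fun e => hp q hq (e ▸ hQ.isPGroup)
  have hRJ : F ⊔ H ≤ normalizer (thompsonSubgroupOf q Q : Set X) :=
    hP.trans (Th.normalizer_le_normalizer_thompsonSubgroupOf Q)
  have hRZ := nm_inf hP (nm_cen hP)
  by_cases hJ : G ≤ normalizer (thompsonSubgroupOf q Q : Set X)
  · exact ⟨_, hn _ hJ hRJ, Th.thompsonSubgroupOf_ne_bot_of_isPGroup hQ.isPGroup hQb,
      (Th.thompsonSubgroupOf_le Q).trans_lt hlt⟩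
  by_cases hZ : G ≤ centralizer ((Q ⊓ centralizer (Q : Set X) : Subgroup X) : Set X)
  · exact ⟨_, hn _ (hZ.trans (centralizer_le_normalizer _)) hRZ,
      Frob.center_ne_bot_of_isPGroup hQ.isPGroup hQb, inf_le_left.trans_lt hlt⟩
  have key : ∀ (L : Subgroup X) (M : Subgroup G), ¬ G ≤ L → F ⊔ H ≤ normalizer (L : Set X) →
      M.map G.subtype ≤ L → HasNormalPComplement q M := by
    intro L M hKL hRL hM
    have h0 := nm_inf hRK hRL
    have h1 := ihs (G ⊓ L) (inf_lt_left.2 hKL) (le_sup_left.trans h0) (le_sup_right.trans h0)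
    have h2 : HasNormalPComplement q (G ⊓ L : Subgroup X) := hasNPC_of_isNilpotent
    exact hasNPC_of_equiv (hasNPC_of_le h2 (le_inf (map_subtype_le M) hM))
      (M.equivMapOfInjective _ G.subtype_injective).symm
  have hnpc : HasNormalPComplement q G := by
    refine (Cfsg.Agent.S0108.result hq2 hQ.toSylow).2 ⟨key _ _ hJ (nm_nm hRJ) ?_,
      key _ _ hZ (nm_cen hRZ) ?_⟩
    · have e := Th.map_thompsonSubgroupOf (p := q) (hQ.toSylow : Subgroup G) G.subtype_injective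
      rw [hQ.map_toSylow] at e
      exact e ▸ map_le_normalizer_map _ le_rfl
    · rintro _ ⟨x, hx, rfl⟩ z hz
      exact congrArg Subtype.val (hx ⟨z, hQ.le hz.1⟩ ⟨hz.1, fun y hy => Subtype.ext (hz.2 y hy)⟩)
  have hc := isComplement'_pResidual_of_hasNPC hnpc hQ.toSylow
  have hch := pResidual_characteristic q G
  refine ⟨(pResidual q G).map G.subtype, hn _ (le_normalizer.trans
    (normalizer_le_normalizer_map_subtype G _)) (hRK.trans (normalizer_le_normalizer_map_subtype G _)),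
    fun e => hlt.ne ?_, lt_of_le_of_ne (map_subtype_le _) fun e => hQb ?_⟩
  · have h3 := hc.sup_eq_top
    rw [(map_eq_bot_iff_of_injective _ G.subtype_injective).1 e, bot_sup_eq] at h3
    rw [← hQ.map_toSylow, h3, ← MonoidHom.range_eq_map, range_subtype]
  · have h3 : pResidual q G = ⊤ := by
      apply map_injective G.subtype_injective
      rw [e, ← MonoidHom.range_eq_map, range_subtype]
    have h4 := hc.disjoint
    rw [h3, top_disjoint] at h4
    rw [← hQ.map_toSylow, h4, Subgroup.map_bot]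

universe u

theorem nil_aux (n : ℕ) : ∀ (X : Type u) [Group X] [Finite X] (G F H : Subgroup X),
    Nat.card G = n → Fr G F H → Group.IsNilpotent (G ⊓ centralizer (H : Set X) : Subgroup X) →
      Group.IsNilpotent G := by
  induction n using Nat.strong_induction_on with
  | _ n ih =>
  suffices H0 : ∀ (X : Type u) [Group X] [Finite X] (G F H : Subgroup X), G ⊔ F ⊔ H = ⊤ →
      Nat.card G = n → Fr G F H → Group.IsNilpotent (G ⊓ centralizer (H : Set X) : Subgroup X) →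
      Group.IsNilpotent G by
    intro X _ _ G F H hn h hC
    have h1 : G ≤ G ⊔ F ⊔ H := le_sup_of_le_left le_sup_left
    have h2 : F ≤ G ⊔ F ⊔ H := le_sup_of_le_left le_sup_right
    have := H0 ↥(G ⊔ F ⊔ H) (G.subgroupOf _) (F.subgroupOf _) (H.subgroupOf _)
      (by rw [← subgroupOf_sup h1 h2, ← subgroupOf_sup le_sup_left le_sup_right, subgroupOf_self])
      (by rw [card_subgroupOf_of_le h1, hn]) (h.sub h2) (isNilpotent_of_le
        (isNilpotent_subgroupOf hC _) fun x hx => ⟨hx.1, fun a ha =>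
          congrArg Subtype.val (hx.2 ⟨a, mem_sup_right ha⟩ ha)⟩)
    exact Group.nilpotent_of_mulEquiv (subgroupOfEquivOfLe h1)
  intro X _ _ G F H hT hn h hC
  have nrm : ∀ L : Subgroup X, G ≤ normalizer (L : Set X) → F ≤ normalizer (L : Set X) →
      H ≤ normalizer (L : Set X) → L.Normal := fun L h1 h2 h3 =>
    normalizer_eq_top_iff.1 (top_le_iff.1 (hT ▸ sup_le (sup_le h1 h2) h3))
  have := nrm G le_normalizer h.hy.nm h.nmG
  have ihs : ∀ L < G, F ≤ normalizer (L : Set X) → H ≤ normalizer (L : Set X) →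
      Group.IsNilpotent L := fun L hL h1 h2 => ih _ (hn ▸ card_lt_of_lt hL) X L F H rfl
    (h.mono hL.le h1 h2) (isNilpotent_of_le hC (inf_le_inf_right _ hL.le))
  have ihq : ∀ (N : Subgroup X) [N.Normal], N ≠ ⊥ → N ≤ G →
      Group.IsNilpotent (G.map (QuotientGroup.mk' N)) := fun N _ h1 h2 => ih _ (by
      rw [← hn, ← card_map_mk'_mul G N, inf_eq_right.2 h2]
      exact lt_mul_of_one_lt_right Nat.card_pos ((one_lt_card_iff_ne_bot _).2 h1))
    _ _ _ _ rfl (h.quot h2) (h.nil_quot h2 hC)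
  by_cases hp : ∃ p : ℕ, p.Prime ∧ IsPGroup p G
  · obtain ⟨p, hp, hG⟩ := hp
    have := Fact.mk hp
    exact hG.isNilpotent
  push Not at hp
  obtain ⟨N, hN, hN1, hlt⟩ := h.exists_normal hT hp ihs
  obtain ⟨V, hV, hVN⟩ := exists_isMinNormal_le N hN1
  have := ihs N hlt (nm_top _) (nm_top _)
  obtain ⟨p, hpp, hE⟩ := hV.exists_isElementaryAbelian_of_isSolvable
    (isSolvable_of_le hVN inferInstance)
  have := hV.normal
  have := Fact.mk hpp
  have hVG := hVN.trans hlt.le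
  have h1 := ihq V hV.ne_bot hVG
  suffices hc : G ≤ centralizer (V : Set X) by
    have : Group.IsNilpotent ((QuotientGroup.mk' V).comp G.subtype).range := by
      rwa [MonoidHom.range_comp, range_subtype]
    refine Subgroup.isNilpotent_of_ker_le_center
      ((QuotientGroup.mk' V).comp G.subtype).rangeRestrict fun x hx => ?_
    rw [MonoidHom.ker_rangeRestrict] at hx
    exact mem_center_iff.2 fun y =>
      Subtype.ext (hc y.2 _ ((QuotientGroup.eq_one_iff (x : X)).1 hx)).symm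
  refine le_of_exists_sylow_le fun q _ => ?_
  obtain ⟨Q, hQ, h2, h3⟩ := h.syl q
  refine ⟨hQ.toSylow, ?_⟩
  rw [hQ.map_toSylow]
  have h4 := normal_sup_of_nil hQ h1
  rcases (sup_le hQ.le hVG).lt_or_eq with h5 | h5
  · exact le_sup_left.trans (hV.le_centralizer_of_isNilpotent (ihs _ h5 (nm_top _) (nm_top _)))
  have hVp : IsPGroup p V := Th.elemAb_isPGroup hE
  have hpq : q ≠ p := by
    rintro rfl
    exact hp q hpp (h5 ▸ hQ.isPGroup.to_sup_of_normal_right hVp)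
  have nrm' : ∀ L : Subgroup X, normalizer (Q : Set X) ≤ normalizer (L : Set X) →
      V ≤ normalizer (L : Set X) → L.Normal := fun L e1 e2 =>
    nrm L (h5 ▸ sup_le (le_normalizer.trans e1) e2) (h2.trans e1) (h3.trans e1)
  by_cases h6 : Q ⊓ centralizer (V : Set X) = ⊥
  swap
  · have := nrm' (Q ⊓ centralizer (V : Set X)) (nm_inf le_rfl (nm_cen (nm_top _)))
      ((le_centralizer_iff.1 inf_le_right).trans (centralizer_le_normalizer _))
    have h7 := normal_sup_of_nil hQ (ihq _ h6 (inf_le_left.trans hQ.le))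
    rw [sup_eq_left.2 inf_le_left] at h7
    exact hV.le_centralizer_of_isNilpotent hQ.isPGroup.isNilpotent
  by_contra h7
  have hZ := nm_inf (le_refl (normalizer (Q : Set X))) (nm_cen le_rfl)
  have hZq : IsPGroup q (Q ⊓ centralizer (Q : Set X) : Subgroup X) := hQ.isPGroup.to_inf_left
  have : IsMulCommutative (Q ⊓ centralizer (Q : Set X) : Subgroup X) :=
    ⟨⟨fun a b => Subtype.ext (b.2.2 _ a.2.1)⟩⟩
  have hco := IsPGroup.coprime_card_of_ne q p hpq _ _ hZq hVp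
  refine hV.ne_bot (((h.mono (inf_le_left.trans hQ.le) (h2.trans hZ) (h3.trans hZ)).qt hZq).key hE
    hco (coprime_card_of_isPGroup hZq (qt_cop q F)) (fun c hc e u hu e' => ?_) ?_)
  · exact (le_centralizer_of_coprime_of_le_nilpotent hC
      (inf_le_inf_right (centralizer (H : Set X)) (inf_le_left.trans hQ.le))
      (inf_le_inf_right _ hVG) ((hco.coprime_dvd_left (card_dvd_of_le inf_le_left)).coprime_dvd_right
        (card_dvd_of_le inf_le_left)) ⟨hc, fun a ha => (e a ha).symm⟩ u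
        ⟨hu, fun a ha => (e' a ha).symm⟩).symm
  · have := hE.1
    refine (hV.eq_bot_or_eq _ (nrm' _ (nm_inf (nm_top _) (nm_cen hZ))
      ((le_centralizer_of_le_of_isMulCommutative inf_le_left).trans
        (centralizer_le_normalizer _))) inf_le_left).resolve_right fun e => ?_
    exact Frob.center_ne_bot_of_isPGroup hQ.isPGroup (fun e => h7 (e ▸ bot_le)) (le_bot_iff.1
      ((le_inf inf_le_left (le_centralizer_iff.1 (inf_eq_left.1 e))).trans h6.le))

/-- If the fixed points of the complement are nilpotent, so is the group. -/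
theorem Fr.nil {X : Type u} [Group X] [Finite X] {G F H : Subgroup X} (h : Fr G F H)
    (hC : Group.IsNilpotent (G ⊓ centralizer (H : Set X) : Subgroup X)) : Group.IsNilpotent G :=
  nil_aux _ X G F H rfl h hC

end CL.FroA
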